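import Groth.Agent.RedSub30.RadicalLe
import Groth.Agent.SgaFix20.DSFact
import Groth.Agent.SgaFix20.DSProd
import Groth.Agent.SgaFix20.EssFree
import Groth.Agent.S5275
import Groth.Agent.MultDefLib.Mult
import Groth.Prelude.Def_SGA3x
import Mathlib

/-!
# Maximal tori: geometric fibres, images of tori, commuting tori in separated groups
-/

universe u

open CategoryTheory CategoryTheory.Limits MonoidalCategory CartesianMonoidalCategory AlgebraicGeometry
open scoped MonObj

set_option backward.isDefEq.respectTransparency false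
set_option backward.isDefEq.respectTransparency.types false
set_option linter.style.haveILetI false
set_option synthInstance.maxHeartbeats 200000
set_option maxHeartbeats 1000000

noncomputable section

namespace Groth.Agent.MaxTorusLib

open GrpSchLib (MultTypeBC.bc_DS)
open GrpSchLib.SubgroupEqLocus (Le)

variable {S : Scheme.{u}}

theorem isIso_geomPt {k : Type u} [Field k] [IsAlgClosed k] (s : Spec (CommRingCat.of k)) :
    IsIso (Red.geomPt s) := by
  let U := Spec (CommRingCat.of k)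
  obtain ⟨ρ, hρ⟩ : ∃ ρ, Spec.map ρ = U.fromSpecResidueField s := ⟨_, Spec.map_preimage _⟩
  haveI : IsClosedImmersion (U.fromSpecResidueField s) := by
    refine IsClosedImmersion.of_isPreimmersion _ ?_
    rw [Scheme.range_fromSpecResidueField]
    rw [show s = IsLocalRing.closedPoint k from Subsingleton.elim (α := PrimeSpectrum k) _ _]
    exact IsLocalRing.isClosed_singleton_closedPoint k
  haveI : Surjective (U.fromSpecResidueField s) :=
    ⟨fun x => ⟨IsLocalRing.closedPoint (U.residueField s), Subsingleton.elim (α := PrimeSpectrum k) _ _⟩⟩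
  haveI : IsIso (U.fromSpecResidueField s) := isIso_of_isClosedImmersion_of_surjective _
  haveI : IsIso (Spec.map ρ) := by rw [hρ]; infer_instance
  haveI : IsIso (Scheme.Spec.map ρ.op) := ‹IsIso (Spec.map ρ)›
  haveI : IsIso ρ.op := isIso_of_fully_faithful Scheme.Spec ρ.op
  haveI : IsIso ρ := isIso_of_op ρ
  have hρb : Function.Bijective ρ.hom := ConcreteCategory.bijective_of_isIso ρ
  haveI : IsAlgClosed (U.residueField s) := IsAlgClosed.of_ringEquiv k _ (RingEquiv.ofBijective ρ.hom hρb)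
  haveI : IsIso (CommRingCat.ofHom (algebraMap (U.residueField s) (AlgebraicClosure (U.residueField s)))) :=
    (ConcreteCategory.isIso_iff_bijective _).mpr IsAlgClosed.algebraMap_bijective_of_isIntegral
  exact inferInstanceAs (IsIso (Spec.map _ ≫ U.fromSpecResidueField s))

theorem isMonHom_of_app {U V : Scheme.{u}} {F F' : Over U ⥤ Over V} [F.Monoidal] [F'.Monoidal]
    (Φ : F ≅ F') (X : Over U) [GrpObj X] :
    @IsMonHom _ _ _ _ _ (Functor.grpObjObj (F := F) (G := X)).toMonObj (Functor.grpObjObj (F := F') (G := X)).toMonObj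
      (Φ.hom.app X) :=
  ((Functor.mapGrpNatIso Φ).app (Grp.mk X)).hom.hom.isMonHom_hom

/-- Base change along an isomorphism detects isomorphisms. -/
theorem isIso_of_map_isIso {U V : Scheme.{u}} (g : V ⟶ U) [IsIso g] {A B : Over U} (f : A ⟶ B)
    (h : IsIso ((Over.pullback g).map f)) : IsIso f := by
  haveI := h
  haveI : IsIso ((Over.pullback g).map f).left :=
    inferInstanceAs (IsIso ((Over.forget _).map ((Over.pullback g).map f)))
  haveI : IsIso (pullback.fst A.hom g) := inferInstance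
  haveI : IsIso (pullback.fst B.hom g) := inferInstance
  haveI : IsIso ((Over.forget _).map f) := by
    show IsIso f.left
    have h := GrpSchLib.HomSplitLocal.map_fst f g
    haveI : IsIso (pullback.fst A.hom g ≫ f.left) := by rw [← h]; infer_instance
    exact IsIso.of_isIso_comp_left (pullback.fst A.hom g) f.left
  exact isIso_of_reflects_iso f (Over.forget _)

/-- The geometric fibres of a maximal torus are maximal tori. -/
theorem isMaximalTorus_geomFibre {T G : Over S} [GrpObj T] [GrpObj G] {i : T ⟶ G} (hi : Red.IsMaximalTorus i)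
    (s : S) : Red.IsMaximalTorus ((Over.pullback (Red.geomPt s)).map i) := by
  obtain ⟨hh, hm, hT, hmax⟩ := hi
  haveI := hh
  haveI := hm
  haveI : (Over.pullback (Red.geomPt s)).PreservesMonomorphisms :=
    Functor.preservesMonomorphisms_of_adjunction (Over.mapPullbackAdj (Red.geomPt s))
  refine ⟨inferInstance, inferInstance, RedSub30.TorusAbsorb.isTorus_bc _ hT, fun s' T' _ j _ _ f hT' hf => ?_⟩
  haveI := isIso_geomPt s'
  let g := Red.geomPt s'
  let g' := inv g
  haveI : (Over.pullback g').PreservesMonomorphisms :=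
    Functor.preservesMonomorphisms_of_adjunction (Over.mapPullbackAdj g')
  let Φ : Over.pullback g ⋙ Over.pullback g' ≅ 𝟭 _ :=
    (Over.pullbackComp g' g).symm ≪≫ eqToIso (congrArg (fun m => Over.pullback m) (IsIso.inv_hom_id g)) ≪≫
      Over.pullbackId
  let GG := Red.geomFibre s G
  let TT := Red.geomFibre s T
  haveI hΦ : IsMonHom (M := Red.bc g' (Red.bc g GG)) (N := GG) (Φ.hom.app GG) :=
    (((Functor.mapGrpCompIso).symm ≪≫ Functor.mapGrpNatIso Φ ≪≫ Functor.mapGrpIdIso).app (Grp.mk GG)).hom.hom.isMonHom_hom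
  haveI : IsIso (Φ.hom.app GG) := inferInstance
  let t'' : Red.bc g' T' ⟶ GG := (Over.pullback g').map j ≫ Φ.hom.app GG
  haveI : IsMonHom t'' := SgaFix20.isMonHom_comp (Y := Red.bc g' (Red.bc g GG)) _ _ inferInstance hΦ
  haveI : Mono t'' := mono_comp _ _
  let f'' : TT ⟶ Red.bc g' T' := Φ.inv.app TT ≫ (Over.pullback g').map f
  have hf'' : f'' ≫ t'' = (Over.pullback (Red.geomPt s)).map i := by
    show (Φ.inv.app TT ≫ _) ≫ (Over.pullback g').map j ≫ Φ.hom.app GG = _
    rw [Category.assoc, ← Functor.map_comp_assoc, hf]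
    have hn := Φ.hom.naturality ((Over.pullback (Red.geomPt s)).map i)
    rw [Functor.comp_map, Functor.id_map] at hn
    rw [hn, Iso.inv_hom_id_app_assoc]
  haveI := hmax s (Red.bc g' T') t'' f'' (RedSub30.TorusAbsorb.isTorus_bc g' hT') hf''
  haveI : IsIso (Φ.inv.app TT) := inferInstance
  exact isIso_of_map_isIso g' f (IsIso.of_isIso_comp_left (Φ.inv.app TT) _)

/-- Diagonalisable groups with isomorphic character groups. -/
theorem nonempty_DS_congr {U : Scheme.{u}} {M N : Type} [AddCommGroup M] [AddCommGroup N] (φ : M ≃+ N) :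
    Nonempty (Grp.mk (Red.DS U N) ≅ Grp.mk (Red.DS U M)) := by
  let i : Red.DS U N ≅ Red.DS U M := ⟨Red.DSmap U φ.toAddMonoidHom, Red.DSmap U φ.symm.toAddMonoidHom, by
    rw [SgaFix20.DSmap_comp, show φ.toAddMonoidHom.comp φ.symm.toAddMonoidHom = AddMonoidHom.id N from
      AddMonoidHom.ext fun x => φ.apply_symm_apply x, SgaFix20.DSmap_id], by
    rw [SgaFix20.DSmap_comp, show φ.symm.toAddMonoidHom.comp φ.toAddMonoidHom = AddMonoidHom.id M from
      AddMonoidHom.ext fun x => φ.symm_apply_apply x, SgaFix20.DSmap_id]⟩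
  haveI : IsMonHom i.hom := S5427.isMonHom_DSmap U _
  exact ⟨Grp.mkIso' i⟩

/-- Split tori are tori. -/
theorem isTorus_DS (U : Scheme.{u}) (n : ℕ) : Red.IsTorus (Red.DS U (Fin n → ℤ)) :=
  ⟨U, 𝟙 U, inferInstance, inferInstance, fun V hV => ⟨V, hV.isCompact, by simp⟩,
    fun _ => ⟨⊤, trivial, n, GrpSchLib.MultTypeBC.bc_DS _ _⟩⟩

/-- A group isomorphic to a torus is a torus. -/
theorem isTorus_of_iso {A B : Over S} [GrpObj A] [GrpObj B] (e : Grp.mk A ≅ Grp.mk B) (hB : Red.IsTorus B) :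
    Red.IsTorus A := by
  obtain ⟨S', f, h1, h2, h3, h4⟩ := hB
  refine ⟨S', f, h1, h2, h3, fun s' => ?_⟩
  obtain ⟨U, hU, r, ⟨e'⟩⟩ := h4 s'
  obtain ⟨e''⟩ := GrpSchLib.MultTypeBC.bc_iso (U.ι ≫ f) e
  exact ⟨U, hU, r, ⟨e'' ≪≫ e'⟩⟩

/-- The image of a torus is a torus. -/
theorem exists_image_torus {H G : Over S} [GrpObj H] [GrpObj G] (hH : Red.IsTorus H)
    [IsSeparated G.hom] [QuasiCompact G.hom] [LocallyOfFiniteType G.hom] (f : H ⟶ G) [IsMonHom f] :
    ∃ (Q : Over S) (_ : GrpObj Q) (j : Q ⟶ G) (p : H ⟶ Q), IsMonHom j ∧ IsMonHom p ∧ IsClosedImmersion j.left ∧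
      Flat p.left ∧ Surjective p.left ∧ p ≫ j = f ∧ Red.IsTorus Q := by
  haveI : QuasiCompact H.hom := by
    haveI := (TransLib.multTypeFT_essFree (GrpSchLib.RankOne.isMultTypeFT_of_isTorus hH)).1
    infer_instance
  obtain ⟨S', π, hflat, hsurj, hcov, hloc⟩ := hH
  have hV : ∀ s' : S', ∃ V : S'.Opens, s' ∈ V ∧ ∃ (F : SgaFix20.Image.Fact f (V.ι ≫ π)) (n : ℕ),
      Nonempty (Grp.mk F.Q ≅ Grp.mk (Red.DS (V : Scheme.{u}) (Fin n → ℤ))) := by
    intro s'
    obtain ⟨U, hsU, r, ⟨e⟩⟩ := hloc s'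
    obtain ⟨V₀, hw, F, Λ, hΛ, ⟨eQ⟩⟩ := SgaFix20.exists_fact f (U.ι ≫ π) e ⟨s', hsU⟩
    obtain ⟨n, ⟨φ⟩⟩ : ∃ n : ℕ, Nonempty ((Fin n → ℤ) ≃+ Λ) := by
      obtain ⟨n, b⟩ := Submodule.basisOfPid (Pi.basisFun ℤ (Fin r)) (AddSubgroup.toIntSubmodule Λ)
      exact ⟨n, ⟨b.equivFun.symm.toAddEquiv⟩⟩
    obtain ⟨ec⟩ := nonempty_DS_congr (U := (V₀ : Scheme.{u})) φ
    let W : S'.Opens := U.ι ''ᵁ V₀
    refine ⟨W, ⟨⟨s', hsU⟩, hw, rfl⟩, ?_⟩
    let i : (W : Scheme.{u}) ≅ (V₀ : Scheme.{u}) := (U.ι.isoImage V₀).symm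
    have hi : W.ι ≫ π = i.hom ≫ (V₀.ι ≫ U.ι ≫ π) := by
      rw [← Category.assoc V₀.ι, ← Category.assoc i.hom]
      exact congrArg (· ≫ π) (U.ι.isoImage_inv_ι V₀).symm
    exact SgaFix20.Image.Fact.exists_comp F i.hom hi (fun T' Q' => ∃ (n : ℕ),
      Nonempty (Q' ≅ Grp.mk (Red.DS T' (Fin n → ℤ)))) (fun Q' ⟨e'⟩ => by
        obtain ⟨e''⟩ := GrpSchLib.MultTypeBC.bc_DS i.hom (Fin n → ℤ)
        obtain ⟨e3⟩ := GrpSchLib.MultTypeBC.bc_iso i.hom (eQ ≪≫ ec)
        exact ⟨n, ⟨e' ≪≫ e3 ≪≫ e''⟩⟩)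
  choose V hsV F n hn using hV
  obtain ⟨Q, iQ, j, hj, p, hp, hc, hfl, hsu, hfac, huniv⟩ :=
    SgaFix20.Image.exists_image f π hcov (fun s => ⟨V s, hsV s, ⟨F s⟩⟩)
  refine ⟨Q, iQ, j, p, hj, hp, hc, hfl, hsu, hfac, S', π, hflat, hsurj, hcov, fun s => ⟨V s, hsV s, n s, ?_⟩⟩
  obtain ⟨e1⟩ := huniv _ ((V s).ι ≫ π) inferInstance (F s)
  obtain ⟨e2⟩ := hn s
  exact ⟨e1 ≪≫ e2⟩

/-- A monomorphism of a torus into a separated group is a closed immersion. -/
theorem isClosedImmersion_of_torus {H G : Over S} [GrpObj H] [GrpObj G] (hH : Red.IsTorus H)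
    [IsSeparated G.hom] [QuasiCompact G.hom] [LocallyOfFiniteType G.hom] (i : H ⟶ G) [IsMonHom i] [Mono i] :
    IsClosedImmersion i.left := by
  haveI : QuasiCompact H.hom := by
    haveI := (TransLib.multTypeFT_essFree (GrpSchLib.RankOne.isMultTypeFT_of_isTorus hH)).1
    infer_instance
  obtain ⟨Q, _, j, p, hj, -, hc, hfl, hsu, hfac, -⟩ := exists_image_torus hH i
  haveI := hfl
  haveI := hsu
  haveI := hc
  haveI : Mono (p ≫ j) := by rw [hfac]; infer_instance
  haveI : Mono p := mono_of_mono p j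
  haveI : Mono p.left := inferInstanceAs (Mono ((Over.forget S).map p))
  haveI : IsSeparated Q.hom := by rw [← Over.w j]; infer_instance
  haveI : QuasiCompact (p.left ≫ Q.hom) := by rw [Over.w p]; infer_instance
  haveI : QuasiCompact p.left := QuasiCompact.of_comp p.left Q.hom
  haveI : IsIso p.left := Flat.isIso_of_surjective_of_mono p.left
  rw [← hfac, Over.comp_left]
  infer_instance

/-- Over an algebraically closed field a torus commuting with a maximal one is contained in it. -/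
theorem exists_factor_field {K : Type u} [Field K] [IsAlgClosed K] {C A B : Over (Spec (CommRingCat.of K))}
    [GrpObj C] [GrpObj A] [GrpObj B] [IsSeparated C.hom] [QuasiCompact C.hom] [LocallyOfFiniteType C.hom]
    (hA : Red.IsTorus A) (hB : Red.IsTorus B) (a : A ⟶ C) [IsMonHom a] (b : B ⟶ C) [IsMonHom b]
    (hcomm : ∀ (X : Over (Spec (CommRingCat.of K))) (x : X ⟶ A) (y : X ⟶ B), Commute (x ≫ a) (y ≫ b))
    (hmax : ∀ (T : Over (Spec (CommRingCat.of K))) [GrpObj T] (t : T ⟶ C) [IsMonHom t] [Mono t] (f : B ⟶ T),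
      Red.IsTorus T → f ≫ t = b → IsIso f) :
    ∃ l : A ⟶ B, l ≫ b = a := by
  have htor : Red.IsTorus (A ⊗ B) := by
    obtain ⟨n, ⟨eA⟩⟩ := RedSub30.exists_splitTorus_iso A hA
    obtain ⟨m, ⟨eB⟩⟩ := RedSub30.exists_splitTorus_iso B hB
    obtain ⟨dA⟩ := GrpSchLib.AffineHopf.nonempty_DS_iso K (Fin n → ℤ)
    obtain ⟨dB⟩ := GrpSchLib.AffineHopf.nonempty_DS_iso K (Fin m → ℤ)
    obtain ⟨e1⟩ := SgaFix20.nonempty_tensor_iso (eA.symm ≪≫ dA) (eB.symm ≪≫ dB)
    obtain ⟨e2⟩ := SgaFix20.nonempty_DS_prod_iso (U := Spec (CommRingCat.of K)) (M := Fin n → ℤ) (N := Fin m → ℤ)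
    obtain ⟨e3⟩ := nonempty_DS_congr (U := Spec (CommRingCat.of K))
      (((LinearEquiv.sumArrowLequivProdArrow (Fin n) (Fin m) ℤ ℤ).symm.trans
        (LinearEquiv.funCongrLeft ℤ ℤ finSumFinEquiv.symm)).toAddEquiv : ((Fin n → ℤ) × (Fin m → ℤ)) ≃+ (Fin (n + m) → ℤ))
    exact isTorus_of_iso (e1 ≪≫ e2.symm ≪≫ e3.symm) (isTorus_DS _ _)
  let φ : A ⊗ B ⟶ C := (fst A B ≫ a) * (snd A B ≫ b)
  haveI : IsMonHom φ := SgaFix20.isMonHom_of_mul φ fun T x y => by
    simp only [φ, MonObj.comp_mul, ← Category.assoc, MonObj.mul_comp]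
    rw [_root_.mul_assoc, _root_.mul_assoc]
    congr 1
    rw [← _root_.mul_assoc, ← _root_.mul_assoc, (hcomm T (y ≫ fst A B) (x ≫ snd A B)).eq]
  obtain ⟨Q, _, j, p, hj, -, hc, -, -, hfac, hQ⟩ := exists_image_torus htor φ
  haveI := hj
  haveI := hc
  haveI : Mono j := Over.mono_of_mono_left j
  let h : B ⟶ Q := lift 1 (𝟙 B) ≫ p
  let k : A ⟶ Q := lift (𝟙 A) 1 ≫ p
  have hh : h ≫ j = b := by
    rw [Category.assoc, hfac, MonObj.comp_mul, lift_fst_assoc, lift_snd_assoc, MonObj.one_comp, Category.id_comp,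
      _root_.one_mul]
  have hk : k ≫ j = a := by
    rw [Category.assoc, hfac, MonObj.comp_mul, lift_fst_assoc, lift_snd_assoc, MonObj.one_comp, Category.id_comp,
      _root_.mul_one]
  haveI := hmax Q j h hQ hh
  exact ⟨k ≫ inv h, by rw [Category.assoc, ← hh, IsIso.inv_hom_id_assoc, hk]⟩

/-- Points of a base change commute when the points do. -/
theorem commute_bc {U : Scheme.{u}} (g : U ⟶ S) {C A B : Over S} [GrpObj C] (a : A ⟶ C) (b : B ⟶ C)
    (hcomm : ∀ (X : Over S) (x : X ⟶ A) (y : X ⟶ B), Commute (x ≫ a) (y ≫ b))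
    (X : Over U) (x : X ⟶ Red.bc g A) (y : X ⟶ Red.bc g B) :
    Commute (x ≫ (Over.pullback g).map a) (y ≫ (Over.pullback g).map b) := by
  refine (DSPtsLib.theta_bijective g).1 ?_
  rw [DSPtsLib.theta_mul, DSPtsLib.theta_mul, GrpSchLib.RankOne.theta_map, GrpSchLib.RankOne.theta_map]
  exact hcomm _ _ _

/-- A torus commuting with a maximal torus, which centralises the whole group, lies in it. -/
theorem exists_factor_central {C A B : Over S} [GrpObj C] [GrpObj A] [GrpObj B] [IsSeparated C.hom] [QuasiCompact C.hom]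
    [LocallyOfFiniteType C.hom] (hA : Red.IsTorus A) (a : A ⟶ C) [IsMonHom a] {b : B ⟶ C}
    (hb : Red.IsMaximalTorus b) (hcent : (∀ (X : Over S) (g : X ⟶ C) (y : X ⟶ B), g * (y ≫ b) = (y ≫ b) * g) ∨
      ∀ (X : Over S) (g : X ⟶ C) (x : X ⟶ A), g * (x ≫ a) = (x ≫ a) * g) :
    ∃ l : A ⟶ B, l ≫ b = a := by
  haveI := hb.1
  haveI := hb.2.1
  haveI : IsClosedImmersion b.left := isClosedImmersion_of_torus hb.2.2.1 b
  obtain ⟨K, k, hkc, hkfp, hk⟩ := GrpSchLib.SubgroupEqLocus.exists_agree b a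
  haveI := hkfp (Or.inr inferInstance)
  obtain ⟨U, -, hU, hle⟩ := RedSub30.TorusAbsorb.main b a (GrpSchLib.RankOne.isMultTypeFT_of_isTorus hb.2.2.1)
    (GrpSchLib.RankOne.isMultTypeFT_of_isTorus hA) hcent k hk
  have hall : ∀ s : S, s ∈ U := fun s => by
    rw [hU]
    refine Le.of_covers (Spec.map (CommRingCat.ofHom
      (algebraMap (S.residueField s) (AlgebraicClosure (S.residueField s))))) (GrpSchLib.HomUnitLocus.covers_field _) ?_
    let g := Red.geomPt s
    haveI : IsSeparated (Red.geomFibre s C).hom := inferInstanceAs (IsSeparated (pullback.snd C.hom g))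
    haveI : QuasiCompact (Red.geomFibre s C).hom := inferInstanceAs (QuasiCompact (pullback.snd C.hom g))
    haveI : LocallyOfFiniteType (Red.geomFibre s C).hom := inferInstanceAs (LocallyOfFiniteType (pullback.snd C.hom g))
    obtain ⟨l, hl⟩ := exists_factor_field (RedSub30.TorusAbsorb.isTorus_bc g hA)
      (RedSub30.TorusAbsorb.isTorus_bc g hb.2.2.1) ((Over.pullback g).map a) ((Over.pullback g).map b)
      (commute_bc g a b fun X x y => hcent.elim (fun h => h X (x ≫ a) y) (fun h => (h X (y ≫ b) x).symm))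
      (fun T _ t _ _ f hT hf => hb.2.2.2 s T t f hT hf)
    exact RedSub30.TorusAbsorb.le_of_bc b a g l hl
  obtain ⟨l, hl⟩ := hle A (Over.homMk (IsOpenImmersion.lift U.ι A.hom (by
    rintro x ⟨y, rfl⟩
    exact ⟨⟨A.hom y, hall _⟩, rfl⟩)) (IsOpenImmersion.lift_fac _ _ _)) (𝟙 A)
  exact ⟨l, hl.trans (Category.id_comp a)⟩

/-- A homomorphism of groups of multiplicative type and finite type which is an isomorphism on the geometric
fibres is an isomorphism. -/
theorem isIso_of_geomFibres {A B : Over S} [GrpObj A] [GrpObj B] (hA : SGA3x.IsMultTypeFT A)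
    (hB : SGA3x.IsMultTypeFT B) (u : A ⟶ B) [IsMonHom u]
    (h : ∀ s : S, IsIso ((Over.pullback (Red.geomPt s)).map u)) : IsIso u := by
  obtain ⟨U, -, hUm, hUi⟩ := S5275.result A B hA hB u
  have hall : U = ⊤ := top_unique fun s _ => by
    rw [← SetLike.mem_coe, SetLike.mem_coe, hUm]
    let a := Spec.map (CommRingCat.ofHom (algebraMap (S.residueField s) (AlgebraicClosure (S.residueField s))))
    haveI := h s
    have h1 : IsIso ((Over.pullback (a ≫ S.fromSpecResidueField s)).map u) := h s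
    have hn := (Over.pullbackComp a (S.fromSpecResidueField s)).hom.naturality u
    haveI := h1
    haveI : IsIso ((Over.pullback a).map ((Over.pullback (S.fromSpecResidueField s)).map u)) := by
      have : IsIso ((Over.pullbackComp a (S.fromSpecResidueField s)).hom.app A ≫
          (Over.pullback a).map ((Over.pullback (S.fromSpecResidueField s)).map u)) := by
        rw [← Functor.comp_map, ← hn]; infer_instance
      exact IsIso.of_isIso_comp_left ((Over.pullbackComp a (S.fromSpecResidueField s)).hom.app A) _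
    haveI : IsIso ((Over.pullback a).map ((Over.pullback (S.fromSpecResidueField s)).map u)).left :=
      inferInstanceAs (IsIso ((Over.forget _).map ((Over.pullback a).map ((Over.pullback (S.fromSpecResidueField s)).map u))))
    exact MorphismProperty.of_isPullback_of_descendsAlong (P := MorphismProperty.isomorphisms Scheme.{u})
      (Q := (@Surjective ⊓ @Flat ⊓ @QuasiCompact : MorphismProperty Scheme.{u}))
      (GrpSchLib.HomSplitLocal.isPullback_map ((Over.pullback (S.fromSpecResidueField s)).map u) a).flip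
      ⟨⟨MorphismProperty.pullback_fst (P := @Surjective) _ _ inferInstance,
        MorphismProperty.pullback_fst (P := @Flat) _ _ inferInstance⟩,
        MorphismProperty.pullback_fst (P := @QuasiCompact) _ _ inferInstance⟩ ‹_›
  subst hall
  haveI : IsIso (⊤ : S.Opens).ι := S.topIso.isIso_hom
  exact isIso_of_map_isIso (⊤ : S.Opens).ι u
    (haveI := hUi; haveI : IsIso ((Over.forget _).map ((Over.pullback (⊤ : S.Opens).ι).map u)) := hUi
     isIso_of_reflects_iso ((Over.pullback (⊤ : S.Opens).ι).map u) (Over.forget _))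

/-- Groups of multiplicative type and finite type are locally diagonalisable for the fpqc topology. -/
theorem locally_of_isMultTypeFT {H : Over S} [GrpObj H] (hH : SGA3x.IsMultTypeFT H) :
    TwC.Locally S TwC.Topology.fpqc (fun S' g => ∃ (M : Type) (_ : AddCommGroup M),
      Nonempty (Grp.mk (Red.bc g H) ≅ Grp.mk (Red.DS S' M))) := by
  obtain ⟨S', f, h1, h2, h3, h4⟩ := hH
  refine ⟨S', f, h1, h2, h3, fun s' => ?_⟩
  obtain ⟨U, hU, M, i, -, he⟩ := h4 s'
  exact ⟨U, hU, M, i, he⟩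

/-- Centralisers commute with base change. -/
theorem isCentralizerOf_bc {U : Scheme.{u}} (q : U ⟶ S) {H G Z : Over S} [GrpObj H] [GrpObj G] [GrpObj Z]
    {i : H ⟶ G} {j : Z ⟶ G} (hj : Red.IsCentralizerOf i j) :
    Red.IsCentralizerOf ((Over.pullback q).map i) ((Over.pullback q).map j) := by
  haveI := hj.1
  haveI := hj.2.1
  haveI : (Over.pullback q).PreservesMonomorphisms :=
    Functor.preservesMonomorphisms_of_adjunction (Over.mapPullbackAdj q)
  refine ⟨inferInstance, inferInstance, fun X g => ⟨?_, fun hg => ?_⟩⟩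
  · rintro ⟨z, rfl⟩ X' x h
    refine (DSPtsLib.theta_bijective q).1 ?_
    rw [DSPtsLib.theta_mul, DSPtsLib.theta_mul, ← Category.assoc, GrpSchLib.RankOne.theta_map,
      GrpSchLib.RankOne.theta_map]
    exact RedSub30.centralizer_comm hj _ _
  · obtain ⟨z, hz⟩ := (hj.2.2 _ (DSPtsLib.theta q g)).mpr fun X' x h => by
      let Y : Over U := Over.mk (x.left ≫ X.hom)
      let e : (Over.map q).obj Y ≅ X' :=
        Over.isoMk (Iso.refl _) (by simpa [Y] using (Over.w x).symm)
      obtain ⟨h', hh'⟩ := (DSPtsLib.theta_bijective q).2 (e.hom ≫ h)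
      let x' : Y ⟶ X := Over.homMk x.left rfl
      have hx : (Over.map q).map x' = e.hom ≫ x := by ext; simp [x', e]
      have h1 := congrArg (DSPtsLib.theta q) (hg Y x' h')
      rw [DSPtsLib.theta_mul, DSPtsLib.theta_mul, GrpSchLib.RankOne.theta_map, DSPtsLib.theta_comp, hh', hx,
        Category.assoc, Category.assoc, ← MonObj.comp_mul, ← MonObj.comp_mul] at h1
      exact (cancel_epi e.hom).mp h1
    obtain ⟨z', hz'⟩ := (DSPtsLib.theta_bijective q).2 z
    refine ⟨z', (DSPtsLib.theta_bijective q).1 ?_⟩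
    rw [GrpSchLib.RankOne.theta_map, hz', hz]

end Groth.Agent.MaxTorusLib

end
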