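import Groth.Agent.MultDefLib.SubgroupTransp
import Groth.Agent.RedSub30.TorusAbsorb
import Groth.Agent.RedEasy38.TorusConn
import Groth.Agent.SecGerm.Irred
import Mathlib

/-!
# Tori are smooth with connected fibres
-/

universe u

open CategoryTheory CategoryTheory.Limits MonoidalCategory CartesianMonoidalCategory AlgebraicGeometry

set_option backward.isDefEq.respectTransparency false
set_option linter.style.haveILetI false
set_option synthInstance.maxHeartbeats 200000

noncomputable section

namespace Groth.Agent.MaxTorusLib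

theorem formallySmooth_monoidAlgebra_free (R : Type u) [CommRing R] (M : Type) [AddCommGroup M] [Module.Free ℤ M] :
    Algebra.FormallySmooth R (MonoidAlgebra R (Multiplicative M)) := by
  refine .of_comp_surjective fun B _ _ I hI f => ?_
  let b := Module.Free.chooseBasis ℤ M
  choose v hv using fun i => Ideal.Quotient.mk_surjective (f (MonoidAlgebra.single (Multiplicative.ofAdd (b i)) 1))
  have hu : ∀ i, IsUnit (v i) := fun i => (IsNilpotent.isUnit_quotient_mk_iff (I := I) ⟨2, hI⟩).mp (by
    rw [hv]
    exact (Group.isUnit (Multiplicative.ofAdd (b i))).map ((f.toMonoidHom.comp (MonoidAlgebra.of R (Multiplicative M))) : Multiplicative M →* B ⧸ I))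
  let φ : M →ₗ[ℤ] Additive Bˣ := b.constr ℤ fun i => Additive.ofMul (hu i).unit
  let ψ : Multiplicative M →* B := (Units.coeHom B).comp (AddMonoidHom.toMultiplicativeLeft φ.toAddMonoidHom)
  refine ⟨MonoidAlgebra.lift R B (Multiplicative M) ψ, ?_⟩
  -- both are monoid homomorphisms out of a free group: compare on the basis
  let L : M →+ Additive (B ⧸ I)ˣ :=
    MonoidHom.toAdditiveRight (((f.toMonoidHom.comp (MonoidAlgebra.of R (Multiplicative M)))).toHomUnits)
  let L' : M →+ Additive (B ⧸ I)ˣ :=
    MonoidHom.toAdditiveRight (((Ideal.Quotient.mk I).toMonoidHom.comp ψ).toHomUnits)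
  have hLL : L'.toIntLinearMap = L.toIntLinearMap := b.ext fun i => by
    apply Additive.toMul.injective
    apply Units.ext
    show Ideal.Quotient.mk I (ψ (Multiplicative.ofAdd (b i))) = f (MonoidAlgebra.single _ 1)
    rw [← hv i]
    congr 1
    show ((Additive.toMul (φ (b i)) : Bˣ) : B) = v i
    rw [show φ (b i) = _ from b.constr_basis ℤ _ i]
    rfl
  have key : ∀ m : Multiplicative M, Ideal.Quotient.mk I (ψ m) = f (MonoidAlgebra.single m 1) := fun m =>
    congrArg (fun l : M →ₗ[ℤ] Additive (B ⧸ I)ˣ =>
      ((Additive.toMul (l (Multiplicative.toAdd m)) : (B ⧸ I)ˣ) : B ⧸ I)) hLL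
  refine AlgHom.ext fun x => ?_
  induction x using MonoidAlgebra.induction_linear with
  | zero => simp
  | add a c ha hc => rw [map_add, map_add, ha, hc]
  | single m r =>
    rw [show MonoidAlgebra.single m r = r • MonoidAlgebra.single m (1 : R) by rw [MonoidAlgebra.smul_single, smul_eq_mul, mul_one],
      map_smul, map_smul, ← key m]
    congr 1
    show Ideal.Quotient.mk I (MonoidAlgebra.lift R B (Multiplicative M) ψ (MonoidAlgebra.single m 1)) = _
    rw [MonoidAlgebra.lift_single, one_smul]

theorem smooth_DS (U : Scheme.{u}) (M : Type) [AddCommGroup M] [Module.Free ℤ M] [Module.Finite ℤ M] :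
    Smooth (Red.DS U M).hom := by
  have hfg : AddGroup.FG M := Module.Finite.iff_addGroup_fg.mp ‹_›
  haveI : AddMonoid.FG M := AddGroup.fg_iff_addMonoid_fg.mp hfg
  haveI : Monoid.FG (Multiplicative M) := Monoid.fg_of_addMonoid_fg
  haveI : IsNoetherianRing (ULift.{u} ℤ) := isNoetherianRing_of_ringEquiv ℤ ULift.ringEquiv.symm
  haveI : Smooth (Red.diag (ULift.{u} ℤ) M).hom := by
    refine (HasRingHomProperty.Spec_iff (P := @Smooth)).mpr ?_
    show RingHom.Smooth (algebraMap (ULift.{u} ℤ) (MonoidAlgebra (ULift.{u} ℤ) (Multiplicative M)))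
    rw [RingHom.smooth_algebraMap]
    exact ⟨formallySmooth_monoidAlgebra_free _ M, Algebra.FinitePresentation.of_finiteType.mp inferInstance⟩
  exact MorphismProperty.pullback_snd (P := @Smooth) _ _ this

variable {S : Scheme.{u}}

/-- A torus is smooth. -/
theorem smooth_torus {T : Over S} [GrpObj T] (hT : Red.IsTorus T) : Smooth T.hom := by
  obtain ⟨S', f, hflat, hsurj, hqc, hloc⟩ := hT
  choose O hO r hr using hloc
  refine (FpqcDescLib.covers_of_hcov f ⟨S', f, 𝟙 _, Category.id_comp _, hsurj, hflat, hqc⟩).descends @Smooth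
    T.hom (pullback.snd T.hom f) (pullback.fst T.hom f) (IsPullback.of_hasPullback T.hom f).flip ?_
  refine IsZariskiLocalAtTarget.of_forall_exists_morphismRestrict fun s' => ⟨O s', hO s', ?_⟩
  obtain ⟨i⟩ := hr s'
  haveI := smooth_DS (O s' : Scheme.{u}) (Fin (r s') → ℤ)
  have H1 : IsPullback ((pullback.snd T.hom f ⁻¹ᵁ O s').ι ≫ pullback.fst T.hom f)
      (pullback.snd T.hom f ∣_ O s') T.hom ((O s').ι ≫ f) :=
    (isPullback_morphismRestrict _ _).flip.paste_horiz (IsPullback.of_hasPullback T.hom f)
  rw [← H1.isoPullback_hom_snd]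
  haveI : IsIso i.hom.hom.hom.left :=
    ⟨i.inv.hom.hom.left, congrArg (fun h => h.hom.hom.left) i.hom_inv_id,
      congrArg (fun h => h.hom.hom.left) i.inv_hom_id⟩
  haveI : Smooth (pullback.snd T.hom ((O s').ι ≫ f)) := by
    have hw : i.hom.hom.hom.left ≫ (Red.DS (O s' : Scheme.{u}) (Fin (r s') → ℤ)).hom =
        pullback.snd T.hom ((O s').ι ≫ f) := Over.w i.hom.hom.hom
    rw [← hw]
    infer_instance
  infer_instance

/-- The fibres of a torus are geometrically connected. -/
theorem geometricallyConnected_torus {T : Over S} [GrpObj T] (hT : Red.IsTorus T) : GeometricallyConnected T.hom := by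
  haveI := smooth_torus hT
  exact SecGerm.geometricallyConnected_group T fun s =>
    RedEasy38.connectedSpace_torus (RedSub30.TorusAbsorb.isTorus_bc (S.fromSpecResidueField s) hT)

end Groth.Agent.MaxTorusLib
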