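import Groth.Agent.MaxTorusLib.Basic
import Groth.Agent.MultDefLib.SubgroupTransp
import Groth.Agent.S19141
import Groth.Agent.GrpSchLib.MultTypeComm
import Mathlib

/-!
# The maximal torus of a group of multiplicative type
-/

universe u

open CategoryTheory CategoryTheory.Limits MonoidalCategory CartesianMonoidalCategory AlgebraicGeometry
open scoped MonObj

set_option backward.isDefEq.respectTransparency false
set_option backward.isDefEq.respectTransparency.types false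
set_option linter.style.haveILetI false
set_option synthInstance.maxHeartbeats 200000
set_option maxHeartbeats 1000000

noncomputable section

namespace Groth.Agent.MaxTorusLib

open DSPtsLib (theta theta_bijective theta_mul theta_comp)

variable {S : Scheme.{u}}

theorem eq_id_pow {X : Over S} [GrpObj X] (F : ℕ → (X ⟶ X)) (h0 : F 0 = 1) (h : ∀ n, F (n + 1) = F n * 𝟙 X) :
    ∀ n, F n = (𝟙 X) ^ n := by
  intro n
  induction n with
  | zero => rw [h0, pow_zero]
  | succ n ih => rw [h, ih, pow_succ]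

theorem DSmap_nsmul (U : Scheme.{u}) {M : Type} [AddCommGroup M] (n : ℕ) :
    Red.DSmap U (n • AddMonoidHom.id M) = (𝟙 (Red.DS U M)) ^ n :=
  eq_id_pow (X := Red.DS U M) (fun n => Red.DSmap U (n • AddMonoidHom.id M))
    (by simp only [zero_smul]; exact SgaFix20.DSmap_zero)
    (fun n => by
      simp only [succ_nsmul]
      rw [← SgaFix20.DSmap_id (M := M) U]
      exact (SgaFix20.DSmap_mul _ _).symm) n

theorem theta_pow {U : Scheme.{u}} (g : U ⟶ S) {H : Over S} [GrpObj H] {Y : Over U} (a : Y ⟶ Red.bc g H) (n : ℕ) :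
    theta g (a ^ n) = theta g a ^ n := by
  induction n with
  | zero => rw [pow_zero, pow_zero]; exact GrpSchLib.HomUnitLocus.theta_one g Y
  | succ n ih => rw [pow_succ, pow_succ, theta_mul, ih]

theorem exists_cover_pullback {A B X : Over S} (p : A ⟶ B) (hp : FpqcDescLib.Covers p.left) (x : X ⟶ B) :
    ∃ (X' : Over S) (π : X' ⟶ X) (y : X' ⟶ A), FpqcDescLib.Covers π.left ∧ π ≫ x = y ≫ p := by
  refine ⟨Over.mk (pullback.fst x.left p.left ≫ X.hom), Over.homMk (pullback.fst x.left p.left) rfl,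
    Over.homMk (pullback.snd x.left p.left) ?_, hp.pullback x.left _ _ (IsPullback.of_hasPullback _ _), ?_⟩
  · show pullback.snd x.left p.left ≫ A.hom = pullback.fst x.left p.left ≫ X.hom
    rw [← Over.w p, ← Over.w x, pullback.condition_assoc]
  · exact Over.OverMorphism.ext pullback.condition

theorem exists_root_cover {X Y : Over S} {_ : MonObj X} {f : X ⟶ X} {n : ℕ} (hf : f = (𝟙 X) ^ n)
    (hc : FpqcDescLib.Covers f.left) (x : Y ⟶ X) :
    ∃ (Y' : Over S) (π : Y' ⟶ Y) (y : Y' ⟶ X), FpqcDescLib.Covers π.left ∧ π ≫ x = y ^ n := by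
  obtain ⟨Y', π, y, hπ, hy⟩ := exists_cover_pullback f hc x
  exact ⟨Y', π, y, hπ, by rw [hy, hf, MonObj.comp_pow, Category.comp_id]⟩

theorem comp_pow_id_comp {X Y A : Over S} [GrpObj X] [GrpObj Y] {f : X ⟶ X} {n : ℕ} (hf : f = (𝟙 X) ^ n)
    (g : X ⟶ Y) [IsMonHom g] (y : A ⟶ X) : y ≫ f ≫ g = (y ≫ g) ^ n := by
  rw [← Category.assoc, hf, MonObj.comp_pow, Category.comp_id, MonObj.pow_comp]

theorem factor_bc_iff {U : Scheme.{u}} (g : U ⟶ S) {Z G : Over S} (i : Z ⟶ G) {X : Over U} (x : X ⟶ Red.bc g G) :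
    (∃ z : X ⟶ Red.bc g Z, z ≫ (Over.pullback g).map i = x) ↔
      ∃ z : (Over.map g).obj X ⟶ Z, z ≫ i = theta g x := by
  constructor
  · rintro ⟨z, rfl⟩
    exact ⟨theta g z, (GrpSchLib.RankOne.theta_map g z i).symm⟩
  · rintro ⟨z, hz⟩
    obtain ⟨z', rfl⟩ := (theta_bijective g).2 z
    exact ⟨z', (theta_bijective g).1 (by rw [GrpSchLib.RankOne.theta_map]; exact hz)⟩

/-- Factorisation through a monomorphism is local for the topology of a covering and for open sets. -/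
theorem factor_of_locally {Z G X : Over S} (i : Z ⟶ G) [Mono i] (x : X ⟶ G) {S' : Scheme.{u}} (π : S' ⟶ S)
    [Flat π] [Surjective π]
    (hcov : ∀ V : S.Opens, IsAffineOpen V → ∃ W : S'.Opens, IsCompact (W : Set S') ∧ π.base '' (W : Set S') = (V : Set S))
    (hloc : ∀ s' : S', ∃ U : S'.Opens, s' ∈ U ∧ ∀ (P : Over (U : Scheme.{u})) (q : (Over.map (U.ι ≫ π)).obj P ⟶ X),
      ∃ z : (Over.map (U.ι ≫ π)).obj P ⟶ Z, z ≫ i = q ≫ x) :
    ∃ z : X ⟶ Z, z ≫ i = x := by
  haveI : Mono i.left := inferInstanceAs (Mono ((Over.forget S).map i))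
  let X' : Over S := Over.mk (pullback.fst X.hom π ≫ X.hom)
  let r : X' ⟶ X := Over.homMk (pullback.fst X.hom π) rfl
  have hr : FpqcDescLib.Covers r.left :=
    (FpqcDescLib.covers_of_hcov π ⟨S', π, 𝟙 _, Category.id_comp _, inferInstance, inferInstance, hcov⟩).pullback
      X.hom _ (pullback.snd X.hom π) (IsPullback.of_hasPullback _ _)
  suffices h : ∃ l : X'.left ⟶ Z.left, l ≫ i.left = (r ≫ x).left by
    obtain ⟨l, hl⟩ := h
    exact RedSub30.exists_factor_of_covers i hr x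
      (Over.homMk l (by rw [← Over.w i, reassoc_of% hl]; exact Over.w (r ≫ x))) (Over.OverMorphism.ext hl)
  refine SgaFix20.Image.exists_factor_local i.left _ fun w => ?_
  obtain ⟨U, hwU, hU⟩ := hloc (pullback.snd X.hom π w)
  let W : X'.left.Opens := pullback.snd X.hom π ⁻¹ᵁ U
  refine ⟨W, hwU, ?_⟩
  let P : Over (U : Scheme.{u}) := Over.mk (pullback.snd X.hom π ∣_ U)
  let q : (Over.map (U.ι ≫ π)).obj P ⟶ X := Over.homMk (W.ι ≫ pullback.fst X.hom π) (by
    show (W.ι ≫ pullback.fst X.hom π) ≫ X.hom = (pullback.snd X.hom π ∣_ U) ≫ U.ι ≫ π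
    rw [Category.assoc, pullback.condition, morphismRestrict_ι_assoc])
  obtain ⟨z, hz⟩ := hU P q
  exact ⟨z.left, (congrArg (fun m => Over.Hom.left m) hz).trans (Category.assoc _ _ _)⟩

/-- Every point of a torus `D(M)` is an `n`-th power after a covering. -/
theorem DS_root (U : Scheme.{u}) {M : Type} [AddCommGroup M] [IsAddTorsionFree M] {n : ℕ} (hn : n ≠ 0)
    (Y : Over U) (x : Y ⟶ Red.DS U M) :
    ∃ (Y' : Over U) (π : Y' ⟶ Y) (y : Y' ⟶ Red.DS U M), FpqcDescLib.Covers π.left ∧ π ≫ x = y ^ n :=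
  exists_root_cover (DSmap_nsmul U (M := M) n)
    (SgaFix20.covers_DSmap U (n • AddMonoidHom.id M) fun _ _ h => nsmul_right_injective hn h) x

theorem chart_torus {R H Z : Over S} [GrpObj R] [GrpObj H] (j : R ⟶ H) [IsMonHom j] (i : Z ⟶ H) [Mono i] {n : ℕ}
    (hpow : ∀ (X : Over S) (x : X ⟶ H), ∃ z : X ⟶ Z, z ≫ i = x ^ n) {U : Scheme.{u}} (t : U ⟶ S) {K : Over U}
    [GrpObj K] (e : Grp.mk (Red.bc t R) ≅ Grp.mk K)
    (hroot : ∀ (Y : Over U) (x : Y ⟶ K),
      ∃ (Y' : Over U) (π : Y' ⟶ Y) (y : Y' ⟶ K), FpqcDescLib.Covers π.left ∧ π ≫ x = y ^ n)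
    {P : Over U} (q : (Over.map t).obj P ⟶ R) : ∃ z : (Over.map t).obj P ⟶ Z, z ≫ i = q ≫ j := by
  let φ := MultDefLib.overIso e
  haveI : IsMonHom φ.inv := e.inv.hom.isMonHom_hom
  obtain ⟨q', hq'⟩ := (theta_bijective t).2 q
  obtain ⟨P', p, y, hp, hy⟩ := hroot _ (q' ≫ φ.hom)
  obtain ⟨z, hz⟩ := hpow _ (theta t (y ≫ φ.inv) ≫ j)
  refine RedSub30.exists_factor_of_covers i (π := (Over.map t).map p) hp (q ≫ j) z ?_
  have h1 : p ≫ q' = (y ≫ φ.inv) ^ n := by
    rw [← MonObj.pow_comp, ← hy, Category.assoc, Category.assoc, φ.hom_inv_id, Category.comp_id]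
  rw [hz, ← hq', ← Category.assoc, ← theta_comp, h1, theta_pow, MonObj.pow_comp]

/-- The chart of the maximal torus: `K ⊆ X` has roots and contains the `(m + 1)`-th powers. -/
theorem chart_maximal {H T : Over S} [GrpObj H] [GrpObj T] (c : T ⟶ H) [IsMonHom c] [Mono c] (Z : ℕ → Over S)
    (i : ∀ n, Z n ⟶ H) [∀ n, Mono (i n)]
    (hT : ∀ (X : Over S) (x : X ⟶ H), (∃ z : X ⟶ T, z ≫ c = x) ↔ ∀ n, ∃ z : X ⟶ Z n, z ≫ i n = x)
    (hpow : ∀ n (X : Over S) (x : X ⟶ H), ∃ z : X ⟶ Z n, z ≫ i n = x ^ (n + 1))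
    (hroot : ∀ n (X : Over S) (z : X ⟶ Z n), ∃ (X' : Over S) (p : X' ⟶ X) (y : X' ⟶ H),
      FpqcDescLib.Covers p.left ∧ p ≫ z ≫ i n = y ^ (n + 1))
    {U : Scheme.{u}} (t : U ⟶ S) {X K : Over U} [GrpObj X] [GrpObj K] (e : Grp.mk (Red.bc t H) ≅ Grp.mk X)
    (μ' : K ⟶ X) [IsMonHom μ'] [Mono μ'] (ψ : X ⟶ K) {m : ℕ} (hψ : ψ ≫ μ' = (𝟙 X) ^ (m + 1))
    (hK : ∀ n (Y : Over U) (x : Y ⟶ K),
      ∃ (Y' : Over U) (π : Y' ⟶ Y) (y : Y' ⟶ K), FpqcDescLib.Covers π.left ∧ π ≫ x = y ^ (n + 1)) :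
    Nonempty (Grp.mk (Red.bc t T) ≅ Grp.mk K) := by
  let φ := MultDefLib.overIso e
  haveI : IsMonHom φ.inv := e.inv.hom.isMonHom_hom
  let k : K ⟶ Red.bc t H := μ' ≫ φ.inv
  haveI : IsMonHom k := SgaFix20.isMonHom_comp _ _ inferInstance inferInstance
  haveI : Mono k := mono_comp _ _
  haveI : (Over.pullback t).PreservesMonomorphisms :=
    Functor.preservesMonomorphisms_of_adjunction (Over.mapPullbackAdj t)
  let ct : Red.bc t T ⟶ Red.bc t H := (Over.pullback t).map c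
  haveI : Mono ct := inferInstanceAs (Mono ((Over.pullback t).map c))
  haveI : IsMonHom ct := inferInstanceAs (IsMonHom ((Over.pullback t).map c))
  obtain ⟨a, ha⟩ : ∃ a : Red.bc t T ⟶ K, a ≫ k = ct := by
    obtain ⟨z, hz⟩ := (hT _ (theta t ct)).mp ((factor_bc_iff t c ct).mp ⟨𝟙 _, Category.id_comp _⟩) m
    obtain ⟨A, p, y, hp, hy⟩ := hroot m _ z
    rw [hz] at hy
    let p₀ : Over.mk (p.left ≫ (Red.bc t T).hom) ⟶ Red.bc t T := Over.homMk p.left rfl
    let A₀ := (Over.map t).obj (Over.mk (p.left ≫ (Red.bc t T).hom))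
    let ι₀ : A₀ ⟶ A := Over.homMk (𝟙 _) (by
      show 𝟙 _ ≫ A.hom = (p.left ≫ (Red.bc t T).hom) ≫ t
      rw [Category.id_comp, Category.assoc]; exact (Over.w p).symm)
    obtain ⟨y', hy'⟩ := (theta_bijective t).2 (ι₀ ≫ y)
    have hy2 : p₀ ≫ ct = y' ^ (m + 1) := by
      refine (theta_bijective t).1 ?_
      rw [theta_comp, theta_pow, hy', ← MonObj.comp_pow, ← hy]
      exact Over.OverMorphism.ext (Category.id_comp _).symm
    refine RedSub30.exists_factor_of_covers k (π := p₀) hp ct (y' ≫ φ.hom ≫ ψ) ?_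
    show (y' ≫ φ.hom ≫ ψ) ≫ μ' ≫ φ.inv = _
    simp only [Category.assoc]
    rw [← Category.assoc ψ, ← Category.assoc y', comp_pow_id_comp hψ φ.inv (y' ≫ φ.hom), Category.assoc,
      φ.hom_inv_id, Category.comp_id, hy2]
  obtain ⟨a', ha'⟩ : ∃ a' : K ⟶ Red.bc t T, a' ≫ ct = k := by
    refine (factor_bc_iff t c k).mpr ((hT _ _).mpr fun n => ?_)
    obtain ⟨A, p, y, hp, hy⟩ := hK n _ (𝟙 K)
    rw [Category.comp_id] at hy
    obtain ⟨w, hw⟩ := hpow n _ (theta t (y ≫ k))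
    refine RedSub30.exists_factor_of_covers (i n) (π := (Over.map t).map p) hp _ w ?_
    rw [hw, ← theta_comp, hy, MonObj.pow_comp, theta_pow]
  let A₁ : Red.bc t T ≅ K :=
    ⟨a, a', by rw [← cancel_mono ct, Category.assoc, ha', ha, Category.id_comp],
      by rw [← cancel_mono k, Category.assoc, ha, ha', Category.id_comp]⟩
  haveI : IsMonHom A₁.hom :=
    { one_hom := by rw [← cancel_mono k, Category.assoc, ha, IsMonHom.one_hom ct, IsMonHom.one_hom k]
      mul_hom := by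
        rw [← cancel_mono k, Category.assoc, ha, IsMonHom.mul_hom ct, Category.assoc, IsMonHom.mul_hom k,
          MonoidalCategory.tensorHom_comp_tensorHom_assoc, ha] }
  exact ⟨Grp.mkIso' A₁⟩

/-- The chart of the maximal torus in a split group. -/
theorem chart_DS {H T : Over S} [GrpObj H] [GrpObj T] (c : T ⟶ H) [IsMonHom c] [Mono c] (Z : ℕ → Over S)
    (i : ∀ n, Z n ⟶ H) [∀ n, Mono (i n)]
    (hT : ∀ (X : Over S) (x : X ⟶ H), (∃ z : X ⟶ T, z ≫ c = x) ↔ ∀ n, ∃ z : X ⟶ Z n, z ≫ i n = x)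
    (hpow : ∀ n (X : Over S) (x : X ⟶ H), ∃ z : X ⟶ Z n, z ≫ i n = x ^ (n + 1))
    (hroot : ∀ n (X : Over S) (z : X ⟶ Z n), ∃ (X' : Over S) (p : X' ⟶ X) (y : X' ⟶ H),
      FpqcDescLib.Covers p.left ∧ p ≫ z ≫ i n = y ^ (n + 1))
    {U : Scheme.{u}} (t : U ⟶ S) {M M' : Type} [AddCommGroup M] [AddCommGroup M'] [IsAddTorsionFree M']
    (e : Grp.mk (Red.bc t H) ≅ Grp.mk (Red.DS U M)) (mk : M →+ M') (hmk : Function.Surjective mk) (ψ : M' →+ M)
    {m : ℕ} (hψ : ψ.comp mk = (m + 1) • AddMonoidHom.id M) :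
    Nonempty (Grp.mk (Red.bc t T) ≅ Grp.mk (Red.DS U M')) := by
  haveI : IsMonHom (Red.DSmap U mk) := S5427.isMonHom_DSmap _ _
  haveI := S5427.isClosedImmersion_DSmap U mk hmk
  haveI : Mono (Red.DSmap U mk) := Over.mono_of_mono_left _
  have hψ' : Red.DSmap U ψ ≫ Red.DSmap U mk = (𝟙 (Red.DS U M)) ^ (m + 1) :=
    (SgaFix20.DSmap_comp U mk ψ).trans ((congrArg (Red.DSmap U) hψ).trans (DSmap_nsmul U (M := M) (m + 1)))
  exact chart_maximal c Z i hT hpow hroot t e (Red.DSmap U mk) (Red.DSmap U ψ) hψ'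
    (fun n => DS_root U (M := M') (n := n + 1) n.succ_ne_zero)

/-- A torus maps into every monomorphism which contains all `n`-th powers. -/
theorem exists_factor_torus {R H Z : Over S} [GrpObj R] [GrpObj H] (hR : Red.IsTorus R) (j : R ⟶ H) [IsMonHom j]
    (i : Z ⟶ H) [Mono i] {n : ℕ} (hn : n ≠ 0)
    (hpow : ∀ (X : Over S) (x : X ⟶ H), ∃ z : X ⟶ Z, z ≫ i = x ^ n) :
    ∃ l : R ⟶ Z, l ≫ i = j := by
  obtain ⟨S', π, hflat, hsurj, hcov, hloc⟩ := hR
  refine factor_of_locally i j π hcov fun s' => ?_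
  obtain ⟨U, hsU, r, ⟨e⟩⟩ := hloc s'
  exact ⟨U, hsU, fun P q => chart_torus j i hpow (U.ι ≫ π) e (DS_root (U : Scheme.{u}) hn) q⟩

theorem exists_pow_image {H : Over S} [GrpObj H] (hH : SGA3x.IsMultTypeFT H) (n : ℕ) :
    ∃ (Z : Over S) (i : Z ⟶ H), IsClosedImmersion i.left ∧
      (∀ (X : Over S) (x : X ⟶ H), ∃ z : X ⟶ Z, z ≫ i = x ^ n) ∧
      ∀ (X : Over S) (z : X ⟶ Z), ∃ (X' : Over S) (p : X' ⟶ X) (y : X' ⟶ H),
        FpqcDescLib.Covers p.left ∧ p ≫ z ≫ i = y ^ n := by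
  haveI : IsAffineHom H.hom := (TransLib.multTypeFT_essFree hH).1
  haveI : LocallyOfFinitePresentation H.hom := MultDefLib.lfp_multTypeFT hH
  let f : H ⟶ H := (𝟙 H) ^ n
  haveI : IsMonHom f := SgaFix20.isMonHom_of_mul f fun T a b => by
    simp only [f, MonObj.comp_pow, Category.comp_id]
    exact Commute.mul_pow (GrpSchLib.MultTypeComm.points_comm hH a b) n
  obtain ⟨⟨Q, _, j, -, f', -, hc, -, hfl, hsu, hfac⟩, -⟩ := S19141.result H H (locally_of_isMultTypeFT hH) f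
  haveI := hc
  haveI := hfl
  haveI := hsu
  haveI : IsSeparated Q.hom := by rw [← Over.w j]; infer_instance
  refine ⟨Q, j, hc, fun X x => ⟨x ≫ f', ?_⟩, fun X z => ?_⟩
  · rw [Category.assoc, hfac, MonObj.comp_pow, Category.comp_id]
  · obtain ⟨X', p, y, hp, hy⟩ := exists_cover_pullback f' (SgaFix20.Image.covers_of_ff f') z
    exact ⟨X', p, y, hp, by rw [reassoc_of% hy, hfac, MonObj.comp_pow, Category.comp_id]⟩

/-- The maximal torus of a group of multiplicative type, with the inclusions of all tori. -/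
theorem exists_maximalTorus_multType (H : Over S) [GrpObj H] (hH : SGA3x.IsMultTypeFT H) :
    ∃ (T : Over S) (_ : GrpObj T) (i : T ⟶ H), Red.IsMaximalTorus i ∧
      ∀ (R : Over S) [GrpObj R] (j : R ⟶ H) [IsMonHom j], Red.IsTorus R → ∃ f : R ⟶ T, f ≫ i = j := by
  haveI : IsAffineHom H.hom := (TransLib.multTypeFT_essFree hH).1
  choose Z i hi hpow hroot using fun n : ℕ => exists_pow_image hH (n + 1)
  let I : H.left.IdealSheafData := ⨆ n, (i n).left.ker
  let T : Over S := Over.mk (I.subschemeι ≫ H.hom)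
  let c : T ⟶ H := Over.homMk I.subschemeι rfl
  haveI : IsClosedImmersion c.left := inferInstanceAs (IsClosedImmersion I.subschemeι)
  haveI : Mono c := Over.mono_of_mono_left _
  haveI : ∀ n, Mono (i n) := fun n => (hi n) |> fun _ => Over.mono_of_mono_left _
  have hT : ∀ (X : Over S) (x : X ⟶ H), (∃ z : X ⟶ T, z ≫ c = x) ↔ ∀ n, ∃ z : X ⟶ Z n, z ≫ i n = x := by
    intro X x
    constructor
    · rintro ⟨z, rfl⟩ n
      haveI := hi n
      have hle : (i n).left.ker ≤ (z ≫ c).left.ker := le_trans (le_iSup (fun n => (i n).left.ker) n)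
        (le_trans I.ker_subschemeι.ge (Scheme.Hom.le_ker_comp z.left c.left))
      exact ⟨Over.homMk (IsClosedImmersion.lift (i n).left _ hle) (by
        rw [← Over.w (i n), ← Category.assoc, IsClosedImmersion.lift_fac, Over.w]),
        Over.OverMorphism.ext (IsClosedImmersion.lift_fac _ _ _)⟩
    · intro h
      have hle : I.subschemeι.ker ≤ x.left.ker := by
        rw [Scheme.IdealSheafData.ker_subschemeι]
        refine iSup_le fun n => ?_
        obtain ⟨z, hz⟩ := h n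
        rw [← hz, Over.comp_left]
        exact Scheme.Hom.le_ker_comp z.left (i n).left
      exact ⟨Over.homMk (IsClosedImmersion.lift I.subschemeι x.left hle) (by
        show _ ≫ I.subschemeι ≫ H.hom = _
        rw [← Category.assoc, IsClosedImmersion.lift_fac, Over.w]),
        Over.OverMorphism.ext (IsClosedImmersion.lift_fac _ _ _)⟩
  obtain ⟨str, hc⟩ := MultDefLib.exists_grpObj_of_locus c (fun X x => ∀ n, ∃ z : X ⟶ Z n, z ≫ i n = x) hT
    (fun X n => by
      obtain ⟨z, hz⟩ := hpow n X 1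
      exact ⟨z, hz.trans (one_pow _)⟩)
    (fun X x x' hx hx' n => by
      obtain ⟨z, hz⟩ := hx n
      obtain ⟨z', hz'⟩ := hx' n
      obtain ⟨A, p, y, hp, hy⟩ := hroot n X z
      obtain ⟨A', p', y', hp', hy'⟩ := hroot n A (p ≫ z')
      obtain ⟨w, hw⟩ := hpow n A' ((p' ≫ y) * y')
      rw [hz] at hy
      rw [Category.assoc, hz'] at hy'
      rw [Commute.mul_pow (GrpSchLib.MultTypeComm.points_comm hH _ _), ← MonObj.comp_pow, ← hy, ← hy',
        ← MonObj.comp_mul, ← MonObj.comp_mul] at hw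
      obtain ⟨v, hv⟩ := RedSub30.exists_factor_of_covers (i n) hp' (p ≫ (x * x')) w hw
      exact RedSub30.exists_factor_of_covers (i n) hp _ v hv)
    (fun X x hx n => by
      obtain ⟨z, hz⟩ := hx n
      obtain ⟨A, p, y, hp, hy⟩ := hroot n X z
      obtain ⟨w, hw⟩ := hpow n A y⁻¹
      rw [hz] at hy
      rw [inv_pow, ← hy, ← GrpObj.comp_inv] at hw
      exact RedSub30.exists_factor_of_covers (i n) hp _ w hw)
  letI := str
  haveI := hc
  have hall : ∀ (R : Over S) [GrpObj R] (j : R ⟶ H) [IsMonHom j], Red.IsTorus R → ∃ f : R ⟶ T, f ≫ c = j :=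
    fun R _ j _ hR => (hT R j).mpr fun n => exists_factor_torus hR j (i n) n.succ_ne_zero (hpow n)
  refine ⟨T, str, c, ⟨hc, inferInstance, ?_, ?_⟩, fun R _ j _ hR => hall R j hR⟩
  · obtain ⟨S', π, hflat, hsurj, hcov, hloc⟩ := hH
    refine ⟨S', π, hflat, hsurj, hcov, fun s' => ?_⟩
    obtain ⟨U, hsU, M, iM, hfg, ⟨e⟩⟩ := hloc s'
    let N := AddCommGroup.torsion M
    haveI : Module.Finite ℤ M := Module.Finite.iff_addGroup_fg.mpr hfg
    haveI : Module.Finite ℤ (M ⧸ N) := Module.Finite.of_surjective (QuotientAddGroup.mk' N).toIntLinearMap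
      (QuotientAddGroup.mk'_surjective N)
    haveI : Module.Free ℤ (M ⧸ N) := Module.free_of_finite_type_torsion_free'
    obtain ⟨b⟩ : Nonempty (Module.Basis (Fin (Module.finrank ℤ (M ⧸ N))) ℤ (M ⧸ N)) := ⟨Module.finBasis ℤ _⟩
    haveI : Finite (AddSubgroup.toIntSubmodule N) := by
      refine Module.finite_of_fg_torsion _ fun x => ?_
      obtain ⟨m, hm0, hm⟩ := isOfFinAddOrder_iff_nsmul_eq_zero.mp (x.2 : IsOfFinAddOrder (x : M))
      exact ⟨⟨(m : ℤ), mem_nonZeroDivisors_of_ne_zero (by exact_mod_cast hm0.ne')⟩, Subtype.ext (by simpa using hm)⟩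
    haveI : Finite N := ‹Finite (AddSubgroup.toIntSubmodule N)›
    obtain ⟨m, hm⟩ : ∃ m : ℕ, m + 1 = Nat.card N := ⟨Nat.card N - 1, Nat.succ_pred_eq_of_pos Nat.card_pos⟩
    let mk : M →+ M ⧸ N := QuotientAddGroup.mk' N
    let ψ : M ⧸ N →+ M := QuotientAddGroup.lift N ((m + 1) • AddMonoidHom.id M) fun x hx => by
      show (m + 1) • x = 0
      rw [hm]
      exact congrArg Subtype.val (card_nsmul_eq_zero' (x := (⟨x, hx⟩ : N)))
    have hψ : ψ.comp mk = (m + 1) • AddMonoidHom.id M := AddMonoidHom.ext fun _ => rfl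
    obtain ⟨eT⟩ := chart_DS c Z i hT hpow hroot (U.ι ≫ π) e mk (QuotientAddGroup.mk'_surjective N) ψ hψ
    obtain ⟨e'⟩ := SgaFix20.nonempty_DS_iso (U : Scheme.{u}) b.equivFun.toAddEquiv
    exact ⟨U, hsU, _, ⟨eT ≪≫ e'⟩⟩
  · intro s T' _ j _ _ f hT' hf
    let g := Red.geomPt s
    haveI : (Over.pullback g).PreservesMonomorphisms :=
      Functor.preservesMonomorphisms_of_adjunction (Over.mapPullbackAdj g)
    obtain ⟨l, hl⟩ : ∃ l : T' ⟶ Red.geomFibre s T, l ≫ (Over.pullback g).map c = j := by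
      refine (factor_bc_iff g c j).mpr ((hT _ _).mpr fun n => ?_)
      obtain ⟨l, hl⟩ := exists_factor_torus hT' j ((Over.pullback g).map (i n)) n.succ_ne_zero fun X x =>
        (factor_bc_iff g (i n) (x ^ (n + 1))).mpr (by rw [theta_pow]; exact hpow n _ _)
      exact (factor_bc_iff g (i n) j).mp ⟨l, hl⟩
    exact ⟨⟨l, by rw [← cancel_mono ((Over.pullback g).map c), Category.assoc, hl, hf, Category.id_comp],
      by rw [← cancel_mono j, Category.assoc, hf, hl, Category.id_comp]⟩⟩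

end Groth.Agent.MaxTorusLib
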