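import Groth.Agent.MaxTorusLib.MultMax
import Groth.Agent.MultDefLib.HomFam
import Groth.Agent.MultDefLib.Transp
import Groth.Agent.RedSub30.TorusAbsorb
import Groth.Agent.RedSub30.Quot
import Groth.Agent.SgaFix20.SplitRank
import Groth.Agent.GrpLimLib.Basic
import Mathlib

/-!
# Descent of affine subgroups along fpqc coverings
-/

universe u

open CategoryTheory CategoryTheory.Limits MonoidalCategory CartesianMonoidalCategory AlgebraicGeometry
open scoped MonObj

set_option backward.isDefEq.respectTransparency false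
set_option backward.isDefEq.respectTransparency.types false
set_option linter.style.haveILetI false
set_option synthInstance.maxHeartbeats 200000
set_option maxHeartbeats 1000000

noncomputable section

namespace Groth.Agent.MaxTorusLib

open DSPtsLib (theta theta_left theta_mul theta_bijective)

variable {S : Scheme.{u}}

theorem indQA_of_isAffineHom {X Y : Scheme.{u}} (f : X ⟶ Y) [IsAffineHom f] : MoreMor.IsIndQuasiAffineHom f :=
  MorLib.IQA.indQA_of_isQuasiAffineHom f ⟨inferInstance, fun V hV =>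
    haveI : IsAffine (f ⁻¹ᵁ V : Scheme.{u}) := hV.preimage f
    inferInstance⟩

/-- A group which becomes a torus after an fpqc covering is a torus. -/
theorem isTorus_of_bc {S' : Scheme.{u}} (π : S' ⟶ S) (hπ : FpqcDescLib.Covers π) {T : Over S} [GrpObj T]
    (hT : Red.IsTorus (Red.bc π T)) : Red.IsTorus T := by
  obtain ⟨S'', f, hflat, hsurj, hqc, hloc⟩ := hT
  obtain ⟨Z, r, hr⟩ :=
    (FpqcDescLib.covers_of_hcov f ⟨S'', f, 𝟙 _, Category.id_comp _, hsurj, hflat, hqc⟩).comp hπ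
  obtain ⟨hfl, hcov⟩ := GrpSchLib.SubgroupEqLocus.flat_hcov_of_isCovering hr
  refine ⟨Z, r ≫ f ≫ π, hfl, ⟨fun x => ?_⟩, hcov, fun z => ?_⟩
  · obtain ⟨V, hV, hxV, -⟩ := exists_isAffineOpen_mem_and_subset (show x ∈ (⊤ : S.Opens) from trivial)
    obtain ⟨W, -, hW⟩ := hcov V hV
    have hx : x ∈ (V : Set S) := hxV
    rw [← hW] at hx
    obtain ⟨w, -, hw⟩ := hx
    exact ⟨w, hw⟩
  · obtain ⟨U, hzU, n, ⟨e⟩⟩ := hloc (r z)
    let U' : Z.Opens := r ⁻¹ᵁ U
    let l : (U' : Scheme.{u}) ⟶ U := r ∣_ U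
    have hl : U'.ι ≫ r ≫ f ≫ π = (l ≫ U.ι ≫ f) ≫ π := by
      rw [← Category.assoc l, morphismRestrict_ι, Category.assoc, Category.assoc]
    obtain ⟨e₁⟩ := GrpSchLib.MultTypeBC.bc_congr hl T
    obtain ⟨e₂⟩ := GrpSchLib.MultTypeBC.bc_bc (l ≫ U.ι ≫ f) π T
    obtain ⟨e₃⟩ := GrpSchLib.MultTypeBC.bc_bc l (U.ι ≫ f) (Red.bc π T)
    obtain ⟨e₄⟩ := GrpSchLib.MultTypeBC.bc_iso l e
    obtain ⟨e₅⟩ := GrpSchLib.MultTypeBC.bc_DS l (Fin n → ℤ)
    exact ⟨U', hzU, n, ⟨e₁ ≪≫ e₂.symm ≪≫ e₃.symm ≪≫ e₄ ≪≫ e₅⟩⟩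

variable {S' : Scheme.{u}} (π : S' ⟶ S) {G : Over S} {T' : Over S'} (i' : T' ⟶ Red.bc π G)

/-- The underlying map to the group over the base of a subobject of its base change. -/
def toBase : T'.left ⟶ G.left := i'.left ≫ pullback.fst G.hom π

/-- A subobject of a base change has the same points over two points with the same image. -/
def IsInvariant : Prop :=
  ∀ (W : Scheme.{u}) (a b : W ⟶ S'), a ≫ π = b ≫ π → ∀ v : W ⟶ T'.left, v ≫ T'.hom = a →
    ∃ v' : W ⟶ T'.left, v' ≫ T'.hom = b ∧ v' ≫ toBase π i' = v ≫ toBase π i'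

variable {π i'}

theorem lift_unique [Mono i'] {W : Scheme.{u}} {v v' : W ⟶ T'.left} (h : v ≫ T'.hom = v' ≫ T'.hom)
    (h' : v ≫ toBase π i' = v' ≫ toBase π i') : v = v' := by
  haveI : Mono i'.left := inferInstanceAs (Mono ((Over.forget S').map i'))
  rw [← cancel_mono i'.left]
  apply pullback.hom_ext
  · rw [Category.assoc, Category.assoc]; exact h'
  · rw [Category.assoc, Category.assoc]
    exact ((congrArg (v ≫ ·) (Over.w i')).trans h).trans (congrArg (v' ≫ ·) (Over.w i')).symm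

/-- Transport of the points of an invariant subobject. -/
def invFun' (hinv : IsInvariant π i') {W : Scheme.{u}} (a b : W ⟶ S') (h : a ≫ π = b ≫ π) (v : Desc.Lifts T' a) :
    Desc.Lifts T' b :=
  ⟨(hinv W a b h v.1 v.2).choose, (hinv W a b h v.1 v.2).choose_spec.1⟩

theorem invFun'_spec (hinv : IsInvariant π i') {W : Scheme.{u}} (a b : W ⟶ S') (h : a ≫ π = b ≫ π)
    (v : Desc.Lifts T' a) : (invFun' hinv a b h v).1 ≫ toBase π i' = v.1 ≫ toBase π i' :=
  (hinv W a b h v.1 v.2).choose_spec.2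

theorem invFun'_eq [Mono i'] (hinv : IsInvariant π i') {W : Scheme.{u}} (a b : W ⟶ S') (h : a ≫ π = b ≫ π)
    (v : Desc.Lifts T' a) (w : Desc.Lifts T' b) (hw : w.1 ≫ toBase π i' = v.1 ≫ toBase π i') :
    invFun' hinv a b h v = w :=
  Subtype.ext (lift_unique ((invFun' hinv a b h v).2.trans w.2.symm) ((invFun'_spec hinv a b h v).trans hw.symm))

/-- The descent datum of an invariant subobject. -/
def subDatum [Mono i'] (hinv : IsInvariant π i') : Desc.SchDDFam (fun _ : PUnit.{u + 1} => π) where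
  obj _ := T'
  φ W i j x₀ x₁ h :=
    { toFun := invFun' hinv x₀ x₁ h
      invFun := invFun' hinv x₁ x₀ h.symm
      left_inv := fun v => invFun'_eq hinv x₁ x₀ h.symm _ v (invFun'_spec hinv x₀ x₁ h v).symm
      right_inv := fun v => invFun'_eq hinv x₀ x₁ h _ v (invFun'_spec hinv x₁ x₀ h.symm v).symm }
  φ_natural W W' g i j x₀ x₁ h y₀ y₁ hy₀ hy₁ h' v v' hv' := by
    refine congrArg Subtype.val (invFun'_eq hinv y₀ y₁ h' v' ⟨g ≫ (invFun' hinv x₀ x₁ h v).1, by
      rw [Category.assoc, (invFun' hinv x₀ x₁ h v).2, hy₁]⟩ ?_)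
    rw [hv', Category.assoc, Category.assoc, invFun'_spec hinv x₀ x₁ h v]
  φ_self W i x v := invFun'_eq hinv x x rfl v v rfl
  φ_comp W i j k x₀ x₁ x₂ h₀₁ h₁₂ v := (invFun'_eq hinv x₀ x₂ (h₀₁.trans h₁₂) v _
    ((invFun'_spec hinv x₁ x₂ h₁₂ _).trans (invFun'_spec hinv x₀ x₁ h₀₁ v))).symm

/-- An invariant affine subobject of a base change along an fpqc covering descends. -/
theorem exists_descent_sub (π : S' ⟶ S) [Flat π] [Surjective π]
    (hcov : ∀ V : S.Opens, IsAffineOpen V → ∃ W : S'.Opens, IsCompact (W : Set S') ∧ π.base '' (W : Set S') = (V : Set S))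
    {G : Over S} {T' : Over S'} [IsAffineHom T'.hom] (i' : T' ⟶ Red.bc π G) [Mono i']
    (hinv : IsInvariant π i') :
    ∃ (T : Over S) (i : T ⟶ G) (φ : Red.bc π T ≅ T'), Mono i ∧ φ.hom ≫ i' = (Over.pullback π).map i := by
  have hmem : Presieve.ofArrows (fun _ : PUnit.{u + 1} => S') (fun _ => π) ∈ Scheme.fpqcPrecoverage S := by
    rw [Presieve.ofArrows_pUnit]
    exact FpqcDescLib.isCovering_of_flat π hcov
  obtain ⟨U, ⟨E⟩⟩ := DescLib.IndQA.isEffective_of_indQA _ hmem (subDatum hinv) fun _ => indQA_of_isAffineHom T'.hom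
  let P := pullback π U.hom
  let q : P ⟶ U.left := pullback.snd π U.hom
  let e : (Over.mk (pullback.fst π U.hom) : Over S') ≅ T' :=
    ⟨E.hom.hom ⟨⟩, E.inv.hom ⟨⟩, congrArg (fun m => Desc.SchDDFam.Hom.hom m ⟨⟩) E.hom_inv_id,
      congrArg (fun m => Desc.SchDDFam.Hom.hom m ⟨⟩) E.inv_hom_id⟩
  let k : P ⟶ G.left := e.hom.left ≫ toBase π i'
  have hq : FpqcDescLib.Covers q :=
    (FpqcDescLib.covers_of_hcov π ⟨S', π, 𝟙 _, Category.id_comp _, inferInstance, inferInstance, hcov⟩).pullback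
      U.hom _ (pullback.fst π U.hom) (IsPullback.of_hasPullback _ _).flip
  have hkw : k ≫ G.hom = q ≫ U.hom := by
    show (e.hom.left ≫ i'.left ≫ pullback.fst G.hom π) ≫ G.hom = pullback.snd π U.hom ≫ U.hom
    rw [Category.assoc, Category.assoc, pullback.condition, ← pullback.condition (f := π), ← Category.assoc i'.left,
      ← Category.assoc e.hom.left]
    congr 1
    exact (congrArg (e.hom.left ≫ ·) (Over.w i')).trans (Over.w e.hom)
  -- two lifts of a point of the base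
  have key : ∀ (W : Scheme.{u}) (a b : W ⟶ P), a ≫ q = b ≫ q → a ≫ k = b ≫ k := by
    intro W a b hab
    let x₀ : W ⟶ S' := a ≫ pullback.fst π U.hom
    let x₁ : W ⟶ S' := b ≫ pullback.fst π U.hom
    have h : x₀ ≫ π = x₁ ≫ π := by
      simp only [x₀, x₁, Category.assoc, pullback.condition]
      exact (reassoc_of% hab) U.hom
    let v : Desc.Lifts (Over.mk (pullback.fst π U.hom)) x₀ := ⟨a, rfl⟩
    let w : Desc.Lifts T' x₀ := E.hom.push (i := ⟨⟩) v
    have hc := E.hom.comm (i := ⟨⟩) (j := ⟨⟩) x₀ x₁ h v w rfl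
    have hcan : (((Desc.toDDFam (fun _ : PUnit.{u + 1} => π)).obj U).φ (i := ⟨⟩) (j := ⟨⟩) x₀ x₁ h v).1 = b :=
      pullback.hom_ext (pullback.lift_fst _ _ _) ((pullback.lift_snd _ _ _).trans hab)
    rw [hcan] at hc
    have hs := invFun'_spec hinv x₀ x₁ h w
    calc a ≫ k = w.1 ≫ toBase π i' := (Category.assoc _ _ _).symm
      _ = (invFun' hinv x₀ x₁ h w).1 ≫ toBase π i' := hs.symm
      _ = (b ≫ e.hom.left) ≫ toBase π i' := congrArg (· ≫ toBase π i') hc
      _ = b ≫ k := Category.assoc _ _ _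
  obtain ⟨il, hil, -⟩ := hq.desc k key
  haveI := hq.epi
  let i : U ⟶ G := Over.homMk il (by rw [← cancel_epi q, ← Category.assoc, hil, hkw])
  have hi : Mono i.left := ⟨fun {W} a b hab => by
    have hw : a ≫ U.hom = b ≫ U.hom := by rw [← Over.w i, reassoc_of% hab]
    let W' := pullback (a ≫ U.hom) π
    let r : W' ⟶ W := pullback.fst _ _
    let a' : W' ⟶ P := pullback.lift (pullback.snd _ _) (r ≫ a) (by
      rw [Category.assoc]; exact pullback.condition.symm)
    let b' : W' ⟶ P := pullback.lift (pullback.snd _ _) (r ≫ b) (by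
      rw [Category.assoc]; exact pullback.condition.symm.trans (congrArg (r ≫ ·) hw))
    have ha' : a' ≫ q = r ≫ a := pullback.lift_snd _ _ _
    have hb' : b' ≫ q = r ≫ b := pullback.lift_snd _ _ _
    have h1 : a' ≫ pullback.fst π U.hom = b' ≫ pullback.fst π U.hom := by
      rw [pullback.lift_fst, pullback.lift_fst]
    have h2 : a' ≫ e.hom.left = b' ≫ e.hom.left := by
      refine lift_unique (π := π) (i' := i') ?_ ?_
      · rw [Category.assoc, Category.assoc, Over.w e.hom]; exact h1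
      · show (a' ≫ e.hom.left) ≫ toBase π i' = (b' ≫ e.hom.left) ≫ toBase π i'
        rw [Category.assoc, Category.assoc]
        show a' ≫ k = b' ≫ k
        rw [← hil, reassoc_of% ha', reassoc_of% hb']
        exact congrArg (r ≫ ·) hab
    haveI : IsIso e.hom.left := inferInstanceAs (IsIso ((Over.forget S').mapIso e).hom)
    have h3 : a' = b' := (cancel_mono e.hom.left).1 h2
    haveI : Epi r := ((FpqcDescLib.covers_of_hcov π ⟨S', π, 𝟙 _, Category.id_comp _, inferInstance, inferInstance,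
      hcov⟩).pullback (a ≫ U.hom) r (pullback.snd _ _) (IsPullback.of_hasPullback _ _)).epi
    rw [← cancel_epi r, ← ha', ← hb', h3]⟩
  let σ : Red.bc π U ≅ Over.mk (pullback.fst π U.hom) :=
    Over.isoMk (pullbackSymmetry U.hom π) (pullbackSymmetry_hom_comp_fst _ _)
  refine ⟨U, i, σ ≪≫ e, Over.mono_of_mono_left i, Over.OverMorphism.ext (pullback.hom_ext ?_ ?_)⟩
  · rw [GrpLimLib.map_left_fst, Over.comp_left, Category.assoc]
    show ((pullbackSymmetry U.hom π).hom ≫ e.hom.left) ≫ toBase π i' = pullback.fst U.hom π ≫ il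
    rw [Category.assoc, show e.hom.left ≫ toBase π i' = k from rfl, ← hil, ← Category.assoc,
      show (pullbackSymmetry U.hom π).hom ≫ q = _ from pullbackSymmetry_hom_comp_snd _ _]
  · exact (Over.w ((σ ≪≫ e).hom ≫ i')).trans (Over.w ((Over.pullback π).map i)).symm

/-- An invariant affine subgroup of a base change along an fpqc covering descends, as a subgroup. -/
theorem exists_descent_subgroup (π : S' ⟶ S) [Flat π] [Surjective π]
    (hcov : ∀ V : S.Opens, IsAffineOpen V → ∃ W : S'.Opens, IsCompact (W : Set S') ∧ π.base '' (W : Set S') = (V : Set S))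
    {G : Over S} [GrpObj G] {T' : Over S'} [GrpObj T'] [IsAffineHom T'.hom] (i' : T' ⟶ Red.bc π G) [IsMonHom i']
    [Mono i'] (hinv : IsInvariant π i') :
    ∃ (T : Over S) (_ : GrpObj T) (i : T ⟶ G) (φ : Grp.mk (Red.bc π T) ≅ Grp.mk T'), IsMonHom i ∧ Mono i ∧
      φ.hom.hom.hom ≫ i' = (Over.pullback π).map i := by
  obtain ⟨T, i, φ, hi, hφ⟩ := exists_descent_sub π hcov i' hinv
  haveI := hi
  let Q : ∀ X : Over S, (X ⟶ G) → Prop := fun X x =>
    ∃ z : Red.bc π X ⟶ T', theta π (z ≫ i') = theta π (𝟙 (Red.bc π X)) ≫ x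
  have hnat : ∀ {X Y : Over S} (x : X ⟶ Y), theta π (𝟙 (Red.bc π X)) ≫ x = theta π ((Over.pullback π).map x) :=
    fun x => by rw [← GrpSchLib.RankOne.theta_map, Category.id_comp]
  have hQ : ∀ (X : Over S) (x : X ⟶ G), (∃ z : X ⟶ T, z ≫ i = x) ↔ Q X x := by
    intro X x
    constructor
    · rintro ⟨z, rfl⟩
      exact ⟨(Over.pullback π).map z ≫ φ.hom, by rw [Category.assoc, hφ, ← Functor.map_comp, hnat]⟩
    · rintro ⟨z, hz⟩
      refine RedSub30.exists_factor_of_covers i (π := theta π (𝟙 (Red.bc π X))) ?_ x (theta π (z ≫ φ.inv)) ?_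
      · rw [theta_left, Over.id_left, Category.id_comp]
        exact (FpqcDescLib.covers_of_hcov π ⟨S', π, 𝟙 _, Category.id_comp _, inferInstance, inferInstance, hcov⟩).pullback
          X.hom _ (pullback.snd X.hom π) (IsPullback.of_hasPullback _ _)
      · rw [← GrpSchLib.RankOne.theta_map, ← hφ, Category.assoc, Iso.inv_hom_id_assoc, hz]
  obtain ⟨str, hmon⟩ := MultDefLib.exists_grpObj_of_locus i Q hQ
    (fun X => ⟨1, by rw [MonObj.one_comp, MultDefLib.theta_one, MonObj.comp_one]⟩)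
    (fun X x y ⟨a, ha⟩ ⟨b, hb⟩ => ⟨a * b, by rw [MonObj.mul_comp, theta_mul, ha, hb, MonObj.comp_mul]⟩)
    (fun X x ⟨a, ha⟩ => ⟨a⁻¹, by rw [GrpObj.inv_comp, MultDefLib.theta_inv, ha, GrpObj.comp_inv]⟩)
  letI := str
  haveI := hmon
  haveI : (Over.pullback π).PreservesMonomorphisms :=
    Functor.preservesMonomorphisms_of_adjunction (Over.mapPullbackAdj π)
  haveI : IsMonHom φ.hom := SgaFix20.isMonHom_of_comp_mono hφ
  exact ⟨T, str, i, Grp.mkIso' φ, hmon, hi, hφ⟩

end Groth.Agent.MaxTorusLib
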