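import Groth.Agent.MaxTorusLib.MaxBC
import Groth.Agent.MaxTorusLib.Absorb
import Groth.Agent.MaxTorusLib.SubDescent
import Mathlib

/-!
# Central maximal tori descend along fpqc coverings
-/

universe u

open CategoryTheory CategoryTheory.Limits MonoidalCategory CartesianMonoidalCategory AlgebraicGeometry
open scoped MonObj

set_option backward.isDefEq.respectTransparency false
set_option backward.isDefEq.respectTransparency.types false
set_option linter.style.haveILetI false
set_option synthInstance.maxHeartbeats 200000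
set_option maxHeartbeats 1000000

noncomputable section

namespace Groth.Agent.MaxTorusLib

open GrpLimLib (cmp map_left_fst)

variable {S : Scheme.{u}}

/-- An isomorphism may be checked after a faithfully flat quasi-compact base change. -/
theorem isIso_of_pullback_map {V : Scheme.{u}} (m : V ⟶ S) [Flat m] [Surjective m] [QuasiCompact m] {A B : Over S}
    (f : A ⟶ B) [IsIso ((Over.pullback m).map f)] : IsIso f := by
  have h : IsPullback ((Over.pullback m).map f).left (pullback.fst A.hom m) (pullback.fst B.hom m) f.left := by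
    refine (IsPullback.of_bot ?_ (map_left_fst f).symm (IsPullback.of_hasPullback B.hom m)).flip
    rw [Over.w f, show ((Over.pullback m).map f).left ≫ pullback.snd B.hom m = pullback.snd A.hom m from
      Over.w ((Over.pullback m).map f)]
    exact IsPullback.of_hasPullback A.hom m
  haveI : IsIso f.left := MorphismProperty.of_isPullback_of_descendsAlong
    (P := MorphismProperty.isomorphisms Scheme.{u}) (Q := @Surjective ⊓ @Flat ⊓ @QuasiCompact) h
    ⟨⟨MorphismProperty.pullback_fst _ _ ‹Surjective m›, MorphismProperty.pullback_fst _ _ ‹Flat m›⟩,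
      MorphismProperty.pullback_fst _ _ ‹QuasiCompact m›⟩
    (inferInstanceAs (IsIso ((Over.forget V).map ((Over.pullback m).map f))))
  haveI : IsIso ((Over.forget S).map f) := inferInstanceAs (IsIso f.left)
  exact isIso_of_reflects_iso f (Over.forget S)

/-- Maximal tori are transported by isomorphisms. -/
theorem isMaximalTorus_comp_iso {T G G' : Over S} [GrpObj T] [GrpObj G] [GrpObj G'] {i : T ⟶ G}
    (hi : Red.IsMaximalTorus i) (ψ : G ≅ G') [IsMonHom ψ.hom] : Red.IsMaximalTorus (i ≫ ψ.hom) := by
  haveI := hi.1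
  haveI := hi.2.1
  refine ⟨SgaFix20.isMonHom_comp _ _ inferInstance inferInstance, mono_comp _ _, hi.2.2.1,
    fun s T' _ j _ _ f hT' hf => ?_⟩
  haveI : IsMonHom (j ≫ (Over.pullback (Red.geomPt s)).map ψ.inv) :=
    SgaFix20.isMonHom_comp _ _ inferInstance inferInstance
  haveI : Mono (j ≫ (Over.pullback (Red.geomPt s)).map ψ.inv) := mono_comp _ _
  refine hi.2.2.2 s T' (j ≫ (Over.pullback (Red.geomPt s)).map ψ.inv) f hT' ?_
  rw [← Category.assoc, hf, ← Functor.map_comp, Category.assoc, Iso.hom_inv_id, Category.comp_id]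

/-- Maximal tori are transported by isomorphisms of the torus. -/
theorem isMaximalTorus_iso_comp {T T₁ G : Over S} [GrpObj T] [GrpObj T₁] [GrpObj G] {i : T ⟶ G}
    (hi : Red.IsMaximalTorus i) (φ : Grp.mk T₁ ≅ Grp.mk T) : Red.IsMaximalTorus (φ.hom.hom.hom ≫ i) := by
  haveI := hi.1
  haveI := hi.2.1
  let a := MultDefLib.overIso φ
  haveI : IsMonHom a.hom := φ.hom.hom.isMonHom_hom
  refine ⟨SgaFix20.isMonHom_comp a.hom _ inferInstance inferInstance, mono_comp a.hom _,
    isTorus_of_iso φ hi.2.2.1, fun s T' _ j _ _ f hT' hf => ?_⟩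
  haveI := hi.2.2.2 s T' j ((Over.pullback (Red.geomPt s)).map a.inv ≫ f) hT' (by
    rw [Category.assoc, hf, ← Functor.map_comp]
    exact congrArg _ (Iso.inv_hom_id_assoc a i))
  exact IsIso.of_isIso_comp_left ((Over.pullback (Red.geomPt s)).map a.inv) _

/-- A central maximal torus over a covering has the same points over two points with the same image. -/
theorem isInvariant_central_maximal {S' : Scheme.{u}} (π : S' ⟶ S) {G : Over S} [GrpObj G]
    [QuasiCompact G.hom] [QuasiSeparated G.hom] [LocallyOfFiniteType G.hom] {T' : Over S'} [GrpObj T']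
    {i' : T' ⟶ Red.bc π G} (hmax : Red.IsMaximalTorus i')
    (hc : ∀ (X : Over S') (t : X ⟶ T') (g : X ⟶ Red.bc π G), Commute (t ≫ i') g) :
    IsInvariant π i' := by
  intro W a b hab v hv
  haveI := hmax.1
  haveI := hmax.2.1
  let ψa := cmp (rfl : a ≫ π = a ≫ π) G
  let ψb := cmp hab.symm G
  haveI : QuasiCompact (Red.bc π G).hom := inferInstanceAs (QuasiCompact (pullback.snd G.hom π))
  haveI : LocallyOfFiniteType (Red.bc π G).hom := inferInstanceAs (LocallyOfFiniteType (pullback.snd G.hom π))
  haveI : QuasiCompact (Red.bc (a ≫ π) G).hom := inferInstanceAs (QuasiCompact (pullback.snd G.hom (a ≫ π)))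
  haveI : QuasiSeparated (Red.bc (a ≫ π) G).hom := inferInstanceAs (QuasiSeparated (pullback.snd G.hom (a ≫ π)))
  haveI : LocallyOfFiniteType (Red.bc (a ≫ π) G).hom :=
    inferInstanceAs (LocallyOfFiniteType (pullback.snd G.hom (a ≫ π)))
  have hb := isMaximalTorus_comp_iso (isMaximalTorus_bc b hmax) ψb
  haveI : IsMonHom ((Over.pullback a).map i' ≫ ψa.hom) :=
    SgaFix20.isMonHom_comp _ _ inferInstance inferInstance
  obtain ⟨l, hl⟩ := exists_factor_commute _ hb ((Over.pullback a).map i' ≫ ψa.hom)
    (RedSub30.TorusAbsorb.isTorus_bc a hmax.2.2.1) fun X t r => by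
      have h := commute_bc b i' (𝟙 (Red.bc π G)) (fun Y x y => by
        rw [Category.comp_id]; exact hc Y x y) X t ((r ≫ (Over.pullback a).map i' ≫ ψa.hom) ≫ ψb.inv)
      simp only [CategoryTheory.Functor.map_id, Category.comp_id] at h
      show (t ≫ _ ≫ ψb.hom) * _ = _ * (t ≫ _ ≫ ψb.hom)
      apply (cancel_mono ψb.inv).1
      rw [MonObj.mul_comp, MonObj.mul_comp, Category.assoc t, Category.assoc ((Over.pullback b).map i'),
        Iso.hom_inv_id, Category.comp_id]
      exact h.eq
  let va : Over.mk (𝟙 W) ⟶ Red.bc a T' := Over.homMk (pullback.lift v (𝟙 W) (hv.trans (Category.id_comp a).symm))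
    (pullback.lift_snd _ _ _)
  refine ⟨(va ≫ l).left ≫ pullback.fst T'.hom b, ?_, ?_⟩
  · rw [Category.assoc, pullback.condition, ← Category.assoc]
    exact (congrArg (· ≫ b) (Over.w (va ≫ l))).trans (Category.id_comp b)
  · have h := congrArg (fun m => (va ≫ m).left ≫ pullback.fst G.hom (a ≫ π)) hl
    simp only [Over.comp_left, Category.assoc, ψa, ψb, GrpLimLib.cmp_hom_fst] at h
    simp only [GrpLimLib.pr] at h
    rw [← Category.assoc ((Over.pullback b).map i').left, ← Category.assoc ((Over.pullback a).map i').left,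
      map_left_fst, map_left_fst, Category.assoc, Category.assoc,
      show va.left ≫ pullback.fst T'.hom a ≫ i'.left ≫ pullback.fst G.hom π = v ≫ i'.left ≫ pullback.fst G.hom π from
        pullback.lift_fst_assoc _ _ _ _] at h
    rw [Over.comp_left, Category.assoc, Category.assoc]
    exact h

end Groth.Agent.MaxTorusLib
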