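import Groth.Agent.MaxTorusLib.SubDescent
import Mathlib

/-!
# Descent of affine subgroups along covering families
-/

universe u

open CategoryTheory CategoryTheory.Limits MonoidalCategory CartesianMonoidalCategory AlgebraicGeometry
open scoped MonObj

set_option backward.isDefEq.respectTransparency false
set_option backward.isDefEq.respectTransparency.types false
set_option linter.style.haveILetI false
set_option synthInstance.maxHeartbeats 200000
set_option maxHeartbeats 1000000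

noncomputable section

namespace Groth.Agent.MaxTorusLib

open DSPtsLib (theta theta_left theta_mul theta_bijective)
open MultDefLib (piece pieceι pieceMap pieceMap_ι isCover_piece)

variable {S : Scheme.{u}} {κ : Type u} {V : κ → Scheme.{u}} (f : ∀ i, V i ⟶ S) {G : Over S} {T' : ∀ i, Over (V i)}
  (u : ∀ i, T' i ⟶ Red.bc (f i) G)

/-- Subobjects on the members of a family have the same points over points with the same image. -/
def IsFamInvariant : Prop :=
  ∀ (i j : κ) (W : Scheme.{u}) (a : W ⟶ V i) (b : W ⟶ V j), a ≫ f i = b ≫ f j →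
    ∀ v : W ⟶ (T' i).left, v ≫ (T' i).hom = a →
      ∃ v' : W ⟶ (T' j).left, v' ≫ (T' j).hom = b ∧ v' ≫ toBase (f j) (u j) = v ≫ toBase (f i) (u i)

variable {f u}

/-- Transport of points between the members of an invariant family. -/
def famFun (hinv : IsFamInvariant f u) {W : Scheme.{u}} {i j : κ} (a : W ⟶ V i) (b : W ⟶ V j)
    (h : a ≫ f i = b ≫ f j) (v : Desc.Lifts (T' i) a) : Desc.Lifts (T' j) b :=
  ⟨(hinv i j W a b h v.1 v.2).choose, (hinv i j W a b h v.1 v.2).choose_spec.1⟩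

theorem famFun_spec (hinv : IsFamInvariant f u) {W : Scheme.{u}} {i j : κ} (a : W ⟶ V i) (b : W ⟶ V j)
    (h : a ≫ f i = b ≫ f j) (v : Desc.Lifts (T' i) a) :
    (famFun hinv a b h v).1 ≫ toBase (f j) (u j) = v.1 ≫ toBase (f i) (u i) :=
  (hinv i j W a b h v.1 v.2).choose_spec.2

theorem famFun_eq [∀ i, Mono (u i)] (hinv : IsFamInvariant f u) {W : Scheme.{u}} {i j : κ} (a : W ⟶ V i)
    (b : W ⟶ V j) (h : a ≫ f i = b ≫ f j) (v : Desc.Lifts (T' i) a) (w : Desc.Lifts (T' j) b)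
    (hw : w.1 ≫ toBase (f j) (u j) = v.1 ≫ toBase (f i) (u i)) : famFun hinv a b h v = w :=
  Subtype.ext (lift_unique ((famFun hinv a b h v).2.trans w.2.symm) ((famFun_spec hinv a b h v).trans hw.symm))

/-- The descent datum of an invariant family. -/
def famDatum [∀ i, Mono (u i)] (hinv : IsFamInvariant f u) : Desc.SchDDFam f where
  obj := T'
  φ W i j x₀ x₁ h :=
    { toFun := famFun hinv x₀ x₁ h
      invFun := famFun hinv x₁ x₀ h.symm
      left_inv := fun v => famFun_eq hinv x₁ x₀ h.symm _ v (famFun_spec hinv x₀ x₁ h v).symm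
      right_inv := fun v => famFun_eq hinv x₀ x₁ h _ v (famFun_spec hinv x₁ x₀ h.symm v).symm }
  φ_natural W W' g i j x₀ x₁ h y₀ y₁ hy₀ hy₁ h' v v' hv' := by
    refine congrArg Subtype.val (famFun_eq hinv y₀ y₁ h' v' ⟨g ≫ (famFun hinv x₀ x₁ h v).1, by
      rw [Category.assoc, (famFun hinv x₀ x₁ h v).2, hy₁]⟩ ?_)
    rw [hv', Category.assoc, Category.assoc, famFun_spec hinv x₀ x₁ h v]
  φ_self W i x v := famFun_eq hinv x x rfl v v rfl
  φ_comp W i j k x₀ x₁ x₂ h₀₁ h₁₂ v := (famFun_eq hinv x₀ x₂ (h₀₁.trans h₁₂) v _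
    ((famFun_spec hinv x₁ x₂ h₁₂ _).trans (famFun_spec hinv x₀ x₁ h₀₁ v))).symm

/-- An invariant family of affine subgroups descends. -/
theorem exists_descent_family (hf : Presieve.ofArrows V f ∈ Scheme.fpqcPrecoverage S) [GrpObj G]
    [∀ i, GrpObj (T' i)] [∀ i, IsAffineHom (T' i).hom] [∀ i, IsMonHom (u i)] [∀ i, Mono (u i)]
    (hinv : IsFamInvariant f u) :
    ∃ (T : Over S) (_ : GrpObj T) (t : T ⟶ G) (φ : ∀ i, Grp.mk (Red.bc (f i) T) ≅ Grp.mk (T' i)),
      IsMonHom t ∧ Mono t ∧ ∀ i, (φ i).hom.hom.hom ≫ u i = (Over.pullback (f i)).map t := by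
  obtain ⟨U, ⟨E⟩⟩ := DescLib.IndQA.isEffective_of_indQA _ hf (famDatum hinv) fun i =>
    indQA_of_isAffineHom (T' i).hom
  let e : ∀ i, (Over.mk (pullback.fst (f i) U.hom) : Over (V i)) ≅ T' i := fun i =>
    ⟨E.hom.hom i, E.inv.hom i, congrArg (fun m => Desc.SchDDFam.Hom.hom m i) E.hom_inv_id,
      congrArg (fun m => Desc.SchDDFam.Hom.hom m i) E.inv_hom_id⟩
  let k : ∀ i, piece f U i ⟶ G := fun i => theta (f i) ((e i).hom ≫ u i)
  have hk : ∀ i, (k i).left = (e i).hom.left ≫ toBase (f i) (u i) := fun i => Category.assoc _ _ _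
  have key : ∀ (i j : κ) (Y : Over S) (a : Y ⟶ piece f U i) (b : Y ⟶ piece f U j),
      a ≫ pieceι f U i = b ≫ pieceι f U j → a ≫ k i = b ≫ k j := by
    intro i j Y a b hab
    let x₀ : Y.left ⟶ V i := a.left ≫ pullback.fst (f i) U.hom
    let x₁ : Y.left ⟶ V j := b.left ≫ pullback.fst (f j) U.hom
    have h₀ : x₀ ≫ f i = Y.hom := (Category.assoc _ _ _).trans (Over.w a)
    have h₁ : x₁ ≫ f j = Y.hom := (Category.assoc _ _ _).trans (Over.w b)
    let v : Desc.Lifts (Over.mk (pullback.fst (f i) U.hom)) x₀ := ⟨a.left, rfl⟩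
    let w : Desc.Lifts (T' i) x₀ := E.hom.push v
    have hc := E.hom.comm x₀ x₁ (h₀.trans h₁.symm) v w rfl
    have hcan : (((Desc.toDDFam f).obj U).φ x₀ x₁ (h₀.trans h₁.symm) v).1 = b.left :=
      pullback.hom_ext (pullback.lift_fst _ _ _) ((pullback.lift_snd _ _ _).trans
        (congrArg (fun m => Over.Hom.left m) hab))
    rw [hcan] at hc
    refine Over.OverMorphism.ext ?_
    calc (a ≫ k i).left = w.1 ≫ toBase (f i) (u i) := by
          rw [Over.comp_left, hk]; exact (Category.assoc _ _ _).symm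
      _ = (famFun hinv x₀ x₁ (h₀.trans h₁.symm) w).1 ≫ toBase (f j) (u j) :=
          (famFun_spec hinv x₀ x₁ (h₀.trans h₁.symm) w).symm
      _ = (b.left ≫ (e j).hom.left) ≫ toBase (f j) (u j) := congrArg (· ≫ toBase (f j) (u j)) hc
      _ = (b ≫ k j).left := by rw [Over.comp_left, hk, Category.assoc]
  obtain ⟨t, ht⟩ := (isCover_piece hf U).exists_glue k key
  have hmono : Mono t := ⟨fun {X} a b hab => (isCover_piece hf X).hom_ext fun i => by
    rw [← pieceMap_ι, ← pieceMap_ι]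
    suffices h : pieceMap a i = pieceMap b i by rw [h]
    have h1 : ∀ c : X ⟶ U, theta (f i) ((pieceMap c i ≫ (e i).hom) ≫ u i) = pieceι f X i ≫ c ≫ t := fun c => by
      rw [Category.assoc, DSPtsLib.theta_comp, ← Category.assoc (pieceι f X i), ← pieceMap_ι, Category.assoc, ht i]
    have h2 := (theta_bijective (f i)).1 (((h1 a).trans (by rw [hab])).trans (h1 b).symm)
    haveI : IsIso (e i).hom := Iso.isIso_hom _
    exact (cancel_mono (e i).hom).1 ((cancel_mono (u i)).1 h2)⟩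
  let Q : ∀ X : Over S, (X ⟶ G) → Prop := fun X x =>
    ∀ i, ∃ z : (Over.mk (pullback.fst (f i) X.hom) : Over (V i)) ⟶ T' i, theta (f i) (z ≫ u i) = pieceι f X i ≫ x
  have hQ : ∀ (X : Over S) (x : X ⟶ G), (∃ z : X ⟶ U, z ≫ t = x) ↔ Q X x := by
    intro X x
    constructor
    · rintro ⟨z, rfl⟩ i
      exact ⟨pieceMap z i ≫ (e i).hom, by
        rw [Category.assoc, DSPtsLib.theta_comp, ← Category.assoc (pieceι f X i), ← pieceMap_ι, Category.assoc, ht i]⟩
    · intro hx
      choose z hz using hx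
      let c : ∀ i, piece f X i ⟶ U := fun i => (Over.map (f i)).map (z i ≫ (e i).inv) ≫ pieceι f U i
      have hc : ∀ i, c i ≫ t = pieceι f X i ≫ x := fun i => by
        rw [Category.assoc, ht i, ← DSPtsLib.theta_comp, Category.assoc, Iso.inv_hom_id_assoc, hz]
      obtain ⟨g, hg⟩ := (isCover_piece hf X).exists_glue c fun i j Y a b hab => by
        rw [← cancel_mono t]
        show (a ≫ c i) ≫ t = (b ≫ c j) ≫ t
        exact (Category.assoc a (c i) t).trans ((congrArg (a ≫ ·) (hc i)).trans ((reassoc_of% hab) x |>.trans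
          ((congrArg (b ≫ ·) (hc j)).symm.trans (Category.assoc b (c j) t).symm)))
      exact ⟨g, (isCover_piece hf X).hom_ext fun i => by rw [← Category.assoc, hg, hc]⟩
  haveI := hmono
  obtain ⟨str, hmon⟩ := MultDefLib.exists_grpObj_of_locus t Q hQ
    (fun X i => ⟨1, by rw [MonObj.one_comp, MultDefLib.theta_one, MonObj.comp_one]⟩)
    (fun X x y hx hy i => by
      obtain ⟨a, ha⟩ := hx i
      obtain ⟨b, hb⟩ := hy i
      exact ⟨a * b, by rw [MonObj.mul_comp, theta_mul, ha, hb, MonObj.comp_mul]⟩)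
    (fun X x hx i => by
      obtain ⟨a, ha⟩ := hx i
      exact ⟨a⁻¹, by rw [GrpObj.inv_comp, MultDefLib.theta_inv, ha, GrpObj.comp_inv]⟩)
  letI := str
  haveI := hmon
  let σ : ∀ i, Red.bc (f i) U ≅ T' i := fun i =>
    (Over.isoMk (pullbackSymmetry U.hom (f i)) (pullbackSymmetry_hom_comp_fst _ _) :
      Red.bc (f i) U ≅ Over.mk (pullback.fst (f i) U.hom)) ≪≫ e i
  have hσ : ∀ i, (σ i).hom ≫ u i = (Over.pullback (f i)).map t := fun i => by
    refine Over.OverMorphism.ext (pullback.hom_ext ?_ ?_)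
    · rw [GrpLimLib.map_left_fst, Over.comp_left, Category.assoc]
      show ((pullbackSymmetry U.hom (f i)).hom ≫ (e i).hom.left) ≫ toBase (f i) (u i) = pullback.fst U.hom (f i) ≫ t.left
      rw [Category.assoc, ← hk, ← ht i, Over.comp_left, ← Category.assoc,
        show (pullbackSymmetry U.hom (f i)).hom ≫ (pieceι f U i).left = _ from pullbackSymmetry_hom_comp_snd _ _]
    · exact (Over.w ((σ i).hom ≫ u i)).trans (Over.w ((Over.pullback (f i)).map t)).symm
  haveI : ∀ i, (Over.pullback (f i)).PreservesMonomorphisms := fun i =>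
    Functor.preservesMonomorphisms_of_adjunction (Over.mapPullbackAdj (f i))
  haveI : ∀ i, IsMonHom (σ i).hom := fun i => SgaFix20.isMonHom_of_comp_mono (hσ i)
  exact ⟨U, str, t, fun i => Grp.mkIso' (σ i), hmon, hmono, hσ⟩

/-- A group which becomes a torus on the members of a jointly surjective open flat family is a torus. -/
theorem isTorus_of_family (hflat : ∀ i, Flat (f i)) (hopen : ∀ i, IsOpenMap (f i).base)
    (hsurj : ∀ s : S, ∃ i, s ∈ Set.range (f i).base) {T : Over S} [GrpObj T]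
    (hT : ∀ i, Red.IsTorus (Red.bc (f i) T)) : Red.IsTorus T := by
  classical
  choose Z g hgf hgs hgc hloc using hT
  let Z' : Scheme.{u} := ∐ Z
  let r : Z' ⟶ S := Sigma.desc fun i => g i ≫ f i
  have hr : ∀ i, Sigma.ι Z i ≫ r = g i ≫ f i := fun i => Sigma.ι_desc _ _
  have hcov : ∀ O : S.Opens, IsAffineOpen O →
      ∃ W : Z'.Opens, IsCompact (W : Set Z') ∧ r.base '' (W : Set Z') = (O : Set S) := by
    intro O hO
    have h1 : ∀ x : O, ∃ (i : κ) (W : (V i).Opens), IsAffineOpen W ∧ x.1 ∈ (f i).base '' (W : Set (V i)) ∧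
        (f i).base '' (W : Set (V i)) ⊆ (O : Set S) := by
      intro x
      obtain ⟨i, y, hy⟩ := hsurj x.1
      obtain ⟨W, hW, hyW, hWO⟩ := exists_isAffineOpen_mem_and_subset
        (show y ∈ f i ⁻¹ᵁ O by show (f i).base y ∈ O; rw [hy]; exact x.2)
      exact ⟨i, W, hW, ⟨y, hyW, hy⟩, Set.image_subset_iff.2 fun z hz => hWO hz⟩
    choose i W hW hxW hWO using h1
    choose W' hW'c hW' using fun x => hgc (i x) (W x) (hW x)
    obtain ⟨t, ht⟩ := hO.isCompact.elim_finite_subcover (fun x : O => (f (i x)).base '' (W x : Set (V (i x))))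
      (fun x => hopen _ _ (W x).2) fun x hx => Set.mem_iUnion.2 ⟨⟨x, hx⟩, hxW _⟩
    refine ⟨⨆ x : {x // x ∈ t}, Sigma.ι Z (i x.1) ''ᵁ W' x.1, ?_, ?_⟩
    · rw [TopologicalSpace.Opens.coe_iSup]
      exact isCompact_iUnion fun x => by
        rw [Scheme.Hom.coe_image]
        exact (hW'c x.1).image (Sigma.ι Z (i x.1)).continuous
    · have himg : ∀ x : O, r.base '' ((Sigma.ι Z (i x) ''ᵁ W' x : Z'.Opens) : Set Z') =
          (f (i x)).base '' (W x : Set (V (i x))) := fun x => by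
        rw [Scheme.Hom.coe_image, ← hW' x, ← Set.image_comp, ← Set.image_comp]
        refine Set.image_congr' fun z => ?_
        show r (Sigma.ι Z (i x) z) = f (i x) (g (i x) z)
        rw [← Scheme.Hom.comp_apply, hr, Scheme.Hom.comp_apply]
      rw [TopologicalSpace.Opens.coe_iSup, Set.image_iUnion]
      refine Set.Subset.antisymm (Set.iUnion_subset fun x => (himg x.1).le.trans (hWO x.1)) fun y hy => ?_
      obtain ⟨x, hx, hy'⟩ := Set.mem_iUnion₂.1 (ht hy)
      exact Set.mem_iUnion.2 ⟨⟨x, hx⟩, (himg x).ge hy'⟩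
  haveI : ∀ i, Flat (g i ≫ f i) := fun i => MorphismProperty.comp_mem _ _ _ (hgf i) (hflat i)
  refine ⟨Z', r, IsZariskiLocalAtSource.sigmaDesc fun i => (inferInstance : Flat (g i ≫ f i)), ⟨fun x => ?_⟩, hcov, fun z => ?_⟩
  · obtain ⟨O, hO, hxO, -⟩ := exists_isAffineOpen_mem_and_subset (show x ∈ (⊤ : S.Opens) from trivial)
    obtain ⟨W, -, hW⟩ := hcov O hO
    have hx : x ∈ (O : Set S) := hxO
    rw [← hW] at hx
    obtain ⟨w, -, hw⟩ := hx
    exact ⟨w, hw⟩
  · obtain ⟨i, z₀, rfl⟩ := (sigmaOpenCover Z).exists_eq z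
    obtain ⟨U, hzU, n, ⟨e⟩⟩ := hloc i z₀
    let U' : Z'.Opens := Sigma.ι Z i ''ᵁ U
    let l : (U' : Scheme.{u}) ⟶ U := ((Sigma.ι Z i).isoImage U).inv
    have hl : U'.ι ≫ r = (l ≫ U.ι ≫ g i) ≫ f i := by
      rw [Category.assoc, Category.assoc, ← hr, ← Category.assoc U.ι, ← Category.assoc l,
        Scheme.Hom.isoImage_inv_ι]
    obtain ⟨e₁⟩ := GrpSchLib.MultTypeBC.bc_congr hl T
    obtain ⟨e₂⟩ := GrpSchLib.MultTypeBC.bc_bc (l ≫ U.ι ≫ g i) (f i) T
    obtain ⟨e₃⟩ := GrpSchLib.MultTypeBC.bc_bc l (U.ι ≫ g i) (Red.bc (f i) T)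
    obtain ⟨e₄⟩ := GrpSchLib.MultTypeBC.bc_iso l e
    obtain ⟨e₅⟩ := GrpSchLib.MultTypeBC.bc_DS l (Fin n → ℤ)
    exact ⟨U', ⟨z₀, hzU, rfl⟩, n, ⟨e₁ ≪≫ e₂.symm ≪≫ e₃.symm ≪≫ e₄ ≪≫ e₅⟩⟩

end Groth.Agent.MaxTorusLib
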