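import Groth.Agent.MaxTorusLib.CentralDescent
import Groth.Agent.MaxTorusLib.FamDescent
import Mathlib

/-!
# Central maximal tori glue along covering families
-/

universe u

open CategoryTheory CategoryTheory.Limits MonoidalCategory CartesianMonoidalCategory AlgebraicGeometry
open scoped MonObj

set_option backward.isDefEq.respectTransparency false
set_option backward.isDefEq.respectTransparency.types false
set_option linter.style.haveILetI false
set_option synthInstance.maxHeartbeats 200000
set_option maxHeartbeats 1000000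

noncomputable section

namespace Groth.Agent.MaxTorusLib

open GrpLimLib (cmp map_left_fst)
open MultDefLib (pieceι isCover_piece)

variable {S : Scheme.{u}}

/-- Central maximal tori on the members of a family have the same points over points with the same image. -/
theorem isFamInvariant_central_maximal {κ : Type u} {V : κ → Scheme.{u}} (π : ∀ k, V k ⟶ S) {G : Over S} [GrpObj G]
    [QuasiCompact G.hom] [QuasiSeparated G.hom] [LocallyOfFiniteType G.hom] {T' : ∀ k, Over (V k)} [∀ k, GrpObj (T' k)]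
    {i' : ∀ k, T' k ⟶ Red.bc (π k) G} (hmax : ∀ k, Red.IsMaximalTorus (i' k))
    (hc : ∀ k (X : Over (V k)) (t : X ⟶ T' k) (g : X ⟶ Red.bc (π k) G), Commute (t ≫ i' k) g) :
    IsFamInvariant π i' := by
  intro p q W a b hab v hv
  haveI := (hmax p).1
  haveI := (hmax p).2.1
  let ψa := cmp (rfl : a ≫ π p = a ≫ π p) G
  let ψb := cmp hab.symm G
  haveI : QuasiCompact (Red.bc (π q) G).hom := inferInstanceAs (QuasiCompact (pullback.snd G.hom (π q)))
  haveI : LocallyOfFiniteType (Red.bc (π q) G).hom :=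
    inferInstanceAs (LocallyOfFiniteType (pullback.snd G.hom (π q)))
  haveI : QuasiCompact (Red.bc (a ≫ π p) G).hom := inferInstanceAs (QuasiCompact (pullback.snd G.hom (a ≫ π p)))
  haveI : QuasiSeparated (Red.bc (a ≫ π p) G).hom := inferInstanceAs (QuasiSeparated (pullback.snd G.hom (a ≫ π p)))
  haveI : LocallyOfFiniteType (Red.bc (a ≫ π p) G).hom :=
    inferInstanceAs (LocallyOfFiniteType (pullback.snd G.hom (a ≫ π p)))
  have hb := isMaximalTorus_comp_iso (isMaximalTorus_bc b (hmax q)) ψb
  haveI : IsMonHom ((Over.pullback a).map (i' p) ≫ ψa.hom) :=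
    SgaFix20.isMonHom_comp _ _ inferInstance inferInstance
  obtain ⟨l, hl⟩ := exists_factor_commute _ hb ((Over.pullback a).map (i' p) ≫ ψa.hom)
    (RedSub30.TorusAbsorb.isTorus_bc a (hmax p).2.2.1) fun X t r => by
      have h := commute_bc b (i' q) (𝟙 (Red.bc (π q) G)) (fun Y x y => by
        rw [Category.comp_id]; exact hc q Y x y) X t ((r ≫ (Over.pullback a).map (i' p) ≫ ψa.hom) ≫ ψb.inv)
      simp only [CategoryTheory.Functor.map_id, Category.comp_id] at h
      show (t ≫ _ ≫ ψb.hom) * _ = _ * (t ≫ _ ≫ ψb.hom)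
      apply (cancel_mono ψb.inv).1
      rw [MonObj.mul_comp, MonObj.mul_comp, Category.assoc t, Category.assoc ((Over.pullback b).map (i' q)),
        Iso.hom_inv_id, Category.comp_id]
      exact h.eq
  let va : Over.mk (𝟙 W) ⟶ Red.bc a (T' p) := Over.homMk (pullback.lift v (𝟙 W) (hv.trans (Category.id_comp a).symm))
    (pullback.lift_snd _ _ _)
  refine ⟨(va ≫ l).left ≫ pullback.fst (T' q).hom b, ?_, ?_⟩
  · rw [Category.assoc, pullback.condition, ← Category.assoc]
    exact (congrArg (· ≫ b) (Over.w (va ≫ l))).trans (Category.id_comp b)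
  · have h := congrArg (fun m => (va ≫ m).left ≫ pullback.fst G.hom (a ≫ π p)) hl
    simp only [Over.comp_left, Category.assoc, ψa, ψb, GrpLimLib.cmp_hom_fst] at h
    simp only [GrpLimLib.pr] at h
    rw [← Category.assoc ((Over.pullback b).map (i' q)).left, ← Category.assoc ((Over.pullback a).map (i' p)).left,
      map_left_fst, map_left_fst, Category.assoc, Category.assoc,
      show va.left ≫ pullback.fst (T' p).hom a ≫ (i' p).left ≫ pullback.fst G.hom (π p) =
          v ≫ (i' p).left ≫ pullback.fst G.hom (π p) from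
        pullback.lift_fst_assoc _ _ _ _] at h
    rw [Over.comp_left, Category.assoc, Category.assoc]
    exact h

/-- Central maximal tori on a jointly surjective flat open family glue to a global one, which is the largest
subtorus. -/
theorem exists_central_maximal_family {κ : Type u} {V : κ → Scheme.{u}} (π : ∀ k, V k ⟶ S) (hflat : ∀ k, Flat (π k))
    (hlfp : ∀ k, LocallyOfFinitePresentation (π k)) (hsurj : ∀ s : S, ∃ k, s ∈ Set.range (π k).base) (G : Over S)
    [GrpObj G] [QuasiCompact G.hom] [QuasiSeparated G.hom] [LocallyOfFiniteType G.hom] {T' : ∀ k, Over (V k)}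
    [∀ k, GrpObj (T' k)] {i' : ∀ k, T' k ⟶ Red.bc (π k) G} (hmax : ∀ k, Red.IsMaximalTorus (i' k))
    (hc : ∀ k (X : Over (V k)) (t : X ⟶ T' k) (g : X ⟶ Red.bc (π k) G), Commute (t ≫ i' k) g) :
    ∃ (T : Over S) (_ : GrpObj T) (i : T ⟶ G), Red.IsMaximalTorus i ∧
      (∀ (X : Over S) (t : X ⟶ T) (g : X ⟶ G), Commute (t ≫ i) g) ∧
      ∀ (R : Over S) [GrpObj R] (j : R ⟶ G) [IsMonHom j] [Mono j], Red.IsTorus R → ∃ f : R ⟶ T, f ≫ i = j := by
  haveI := hflat
  haveI := hlfp
  haveI : ∀ k, IsMonHom (i' k) := fun k => (hmax k).1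
  haveI : ∀ k, Mono (i' k) := fun k => (hmax k).2.1
  haveI : ∀ k, IsAffineHom (T' k).hom := fun k =>
    (TransLib.multTypeFT_essFree (GrpSchLib.RankOne.isMultTypeFT_of_isTorus (hmax k).2.2.1)).1
  have hmem : Presieve.ofArrows V π ∈ Scheme.fpqcPrecoverage S := by
    refine Scheme.fppfPrecoverage_le_fpqcPrecoverage _ ?_
    rw [Scheme.fppfPrecoverage, Scheme.ofArrows_mem_precoverage_iff]
    exact ⟨fun x => hsurj x, fun k => ⟨hflat k, hlfp k⟩⟩
  obtain ⟨T, grpT, i, φ, hmon, hmono, hφ⟩ :=
    exists_descent_family hmem (isFamInvariant_central_maximal π hmax hc)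
  haveI := hmon
  haveI := hmono
  have hi' : ∀ k, Red.IsMaximalTorus ((Over.pullback (π k)).map i) := fun k =>
    hφ k ▸ isMaximalTorus_iso_comp (hmax k) (φ k)
  have hi : Red.IsMaximalTorus i := by
    refine ⟨hmon, hmono, isTorus_of_family hflat (fun k => (π k).isOpenMap) hsurj fun k => (hi' k).2.2.1,
      fun s R _ j _ _ f hR hf => ?_⟩
    obtain ⟨k, s', rfl⟩ := hsurj s
    obtain ⟨m, hm⟩ := ConjEtale19.exists_geomPt_lift (π k) s'
    let gv := Red.geomPt s'
    let ΦG := cmp (rfl : gv ≫ π k = gv ≫ π k) G ≪≫ (cmp hm G).symm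
    let ΦT := cmp (rfl : gv ≫ π k = gv ≫ π k) T ≪≫ (cmp hm T).symm
    haveI : IsMonHom ΦG.hom := SgaFix20.isMonHom_comp _ _ inferInstance (inferInstanceAs (IsMonHom (cmp hm G).inv))
    haveI : (Over.pullback m).PreservesMonomorphisms :=
      Functor.preservesMonomorphisms_of_adjunction (Over.mapPullbackAdj m)
    haveI : IsMonHom ((Over.pullback m).map j ≫ ΦG.inv) :=
      SgaFix20.isMonHom_comp _ _ inferInstance inferInstance
    haveI : Mono ((Over.pullback m).map j ≫ ΦG.inv) := mono_comp _ _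
    haveI := (hi' k).2.2.2 s' (Red.bc m R) ((Over.pullback m).map j ≫ ΦG.inv) (ΦT.hom ≫ (Over.pullback m).map f)
      (RedSub30.TorusAbsorb.isTorus_bc m hR) (by
        rw [Category.assoc, ← Functor.map_comp_assoc, hf, ← reassoc_of% cmp_cmp_symm_naturality
          (rfl : gv ≫ π k = gv ≫ π k) hm i, Iso.hom_inv_id, Category.comp_id])
    haveI : IsIso ((Over.pullback m).map f) := IsIso.of_isIso_comp_left ΦT.hom _
    exact isIso_of_pullback_map m f
  have hc' : ∀ (X : Over S) (t : X ⟶ T) (g : X ⟶ G), Commute (t ≫ i) g := fun X t g => by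
    show (t ≫ i) * g = g * (t ≫ i)
    refine (isCover_piece hmem X).hom_ext fun k => ?_
    obtain ⟨t', ht'⟩ := (DSPtsLib.theta_bijective (π k)).2 (pieceι π X k ≫ t)
    obtain ⟨g', hg'⟩ := (DSPtsLib.theta_bijective (π k)).2 (pieceι π X k ≫ g)
    rw [MonObj.comp_mul, MonObj.comp_mul, ← Category.assoc, ← ht', ← hg', ← GrpSchLib.RankOne.theta_map,
      ← DSPtsLib.theta_mul, ← DSPtsLib.theta_mul, ← hφ, ← Category.assoc]
    exact congrArg (DSPtsLib.theta (π k)) (hc k _ _ g')
  exact ⟨T, grpT, i, hi, hc', fun R _ j _ _ hR =>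
    exists_factor_commute i hi j hR fun X t r => hc' X t (r ≫ j)⟩

end Groth.Agent.MaxTorusLib
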