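import Groth.Agent.AbSchX.LaurentLoc
import Groth.Agent.GrpSchLib.AffineHopf
import Groth.Agent.S1618
import Mathlib

/-!
# The dimension of the group algebra of a free group
-/

set_option autoImplicit false
set_option maxHeartbeats 800000
set_option linter.style.haveILetI false

universe u

open CategoryTheory CategoryTheory.Limits AlgebraicGeometry MonoidalCategory CartesianMonoidalCategory
open scoped MonObj

noncomputable section

namespace Groth.Agent.MaxTorusLib

theorem ringKrullDim_groupAlgebra (K : Type u) [Field K] (Λ : Type) [AddCommGroup Λ] [Module.Free ℤ Λ]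
    [Module.Finite ℤ Λ] :
    ringKrullDim (MonoidAlgebra K (Multiplicative Λ)) = ((Module.finrank ℤ Λ : ℕ) : WithBot ℕ∞) := by
  set r := Module.finrank ℤ Λ
  let S := Spec (CommRingCat.of K)
  let e : Λ ≃+ (Fin r → ℤ) := (Module.finBasis ℤ Λ).equivFun.toAddEquiv
  rw [ringKrullDim_eq_of_ringEquiv (MonoidAlgebra.domCongr K K e.toMultiplicative).toRingEquiv,
    ← PrimeSpectrum.topologicalKrullDim_eq_ringKrullDim]
  obtain ⟨i⟩ := GrpSchLib.AffineHopf.nonempty_DS_iso K (Fin r → ℤ)
  let i' : (GrpSchLib.AffineHopf.sp K (MonoidAlgebra K (Multiplicative (Fin r → ℤ)))).left ≅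
      (Red.DS S (Fin r → ℤ)).left := (Over.forget _).mapIso ((Grp.forget _).mapIso i)
  refine ((Scheme.homeoOfIso i').isHomeomorph.topologicalKrullDim_eq).trans ?_
  let n := ULift.{u} (Fin r)
  let j : (Red.DS S (Fin r → ℤ)).left ⟶ Spec (CommRingCat.of (MvPolynomial n K)) :=
    (AbSchX.LaurentLoc.toAffine r S).left ≫ (AffineSpace.SpecIso n (CommRingCat.of K)).hom
  haveI := AbSchX.LaurentLoc.isOpenImmersion_toAffine r S
  haveI : IsOpenImmersion j := inferInstanceAs (IsOpenImmersion (_ ≫ _))
  let X := Spec (CommRingCat.of (MvPolynomial n K))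
  letI : X.Over S := ⟨Spec.map (CommRingCat.ofHom (algebraMap K (MvPolynomial n K)))⟩
  haveI : LocallyOfFiniteType (X ↘ S) := by
    show LocallyOfFiniteType (Spec.map _)
    rw [HasRingHomProperty.Spec_iff (P := @LocallyOfFiniteType)]
    exact RingHom.finiteType_algebraMap.mpr inferInstance
  haveI : IrreducibleSpace X := inferInstanceAs (IrreducibleSpace (PrimeSpectrum (MvPolynomial n K)))
  haveI : Nonempty (Red.DS S (Fin r → ℤ)).left :=
    ⟨(1 : 𝟙_ (Over S) ⟶ Red.DS S (Fin r → ℤ)).left.base (⟨⊥, Ideal.isPrime_bot⟩ : PrimeSpectrum K)⟩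
  have h := Groth.Agent.S1618.result K X j.opensRange ⟨_, Set.mem_range_self (Classical.arbitrary _)⟩
  rw [← (Scheme.homeoOfIso j.isoOpensRange.symm).isHomeomorph.topologicalKrullDim_eq]
  refine h.trans ?_
  show topologicalKrullDim (PrimeSpectrum (MvPolynomial n K)) = _
  rw [PrimeSpectrum.topologicalKrullDim_eq_ringKrullDim, MvPolynomial.ringKrullDim_of_isNoetherianRing,
    ringKrullDim_eq_zero_of_field, zero_add]
  simp [n]

end Groth.Agent.MaxTorusLib
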