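import Groth.Agent.MaxTorusLib.RankFun
import Mathlib

/-!
# Maximal tori over etale coverings and the local constancy of the reductive rank
-/

universe u

open CategoryTheory CategoryTheory.Limits MonoidalCategory CartesianMonoidalCategory AlgebraicGeometry
open scoped MonObj

set_option backward.isDefEq.respectTransparency false
set_option backward.isDefEq.respectTransparency.types false
set_option linter.style.haveILetI false
set_option synthInstance.maxHeartbeats 200000
set_option maxHeartbeats 1000000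

noncomputable section

namespace Groth.Agent.MaxTorusLib

open GrpLimLib (cmp)
open GrpSchLib.AffineHopf (sp)

variable {S : Scheme.{u}}

/-- Group algebras over a domain isomorphic as bialgebras come from isomorphic groups. -/
theorem addEquiv_of_bialgEquiv {K : Type u} [CommRing K] [IsDomain K] {M N : Type} [AddCommGroup M] [AddCommGroup N]
    (ε : MonoidAlgebra K (Multiplicative M) ≃ₐc[K] MonoidAlgebra K (Multiplicative N)) : Nonempty (M ≃+ N) := by
  let f := MonoidAlgebra.mapDomainOfBialgHom (R := K) ε.toBialgHom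
  let g := MonoidAlgebra.mapDomainOfBialgHom (R := K) ε.symm.toBialgHom
  refine ⟨AddEquiv.toMultiplicative.symm
    { toFun := f, invFun := g, left_inv := fun m => ?_, right_inv := fun n => ?_, map_mul' := map_mul f }⟩
  · refine MonoidAlgebra.single_left_injective (R := K) one_ne_zero ?_
    show MonoidAlgebra.single (g (f m)) (1 : K) = MonoidAlgebra.single m 1
    simp only [g, f, MonoidAlgebra.single_mapDomainOfBialgHom]
    exact ε.symm_apply_apply _
  · refine MonoidAlgebra.single_left_injective (R := K) one_ne_zero ?_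
    show MonoidAlgebra.single (f (g n)) (1 : K) = MonoidAlgebra.single n 1
    simp only [g, f, MonoidAlgebra.single_mapDomainOfBialgHom]
    exact ε.apply_symm_apply _

/-- The dimension of the fibres of a torus is constant on etale neighbourhoods. -/
theorem exists_etale_rank {T : Over S} [GrpObj T] (hT : Red.IsTorus T) (s : S) :
    ∃ (B : CommRingCat.{u}) (b : Spec B ⟶ S) (n : ℕ), Etale b ∧ s ∈ Set.range b.base ∧
      ∀ {K : Type u} [Field K] (x : Spec (CommRingCat.of K) ⟶ Spec B),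
        topologicalKrullDim ↥(Red.bc (x ≫ b) T).left = (n : WithBot ℕ∞) := by
  obtain ⟨B, b, y, M, _, hb, hy, hM, ⟨e⟩⟩ :=
    ConjEtale19.exists_etale_split (GrpSchLib.RankOne.isMultTypeFT_of_isTorus hT) s
  obtain ⟨eB⟩ := GrpSchLib.AffineHopf.nonempty_DS_iso B M
  have hfib : ∀ {K : Type u} [Field K] (x : Spec (CommRingCat.of K) ⟶ Spec B),
      Nonempty (Grp.mk (Red.bc (x ≫ b) T) ≅ Grp.mk (sp K (MonoidAlgebra K (Multiplicative M)))) := by
    intro K _ x
    obtain ⟨e₁⟩ := GrpSchLib.MultTypeBC.bc_bc x b T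
    obtain ⟨e₂⟩ := GrpSchLib.MultTypeBC.bc_iso x (e ≪≫ eB)
    obtain ⟨e₃⟩ := GrpSchLib.MultTypeBC.bc_DS x M
    obtain ⟨e₄⟩ := GrpSchLib.AffineHopf.nonempty_DS_iso K M
    exact ⟨e₁.symm ≪≫ e₂ ≪≫ e₃ ≪≫ e₄.symm⟩
  let K₀ := AlgebraicClosure ((Spec B).residueField y)
  obtain ⟨e₀⟩ := hfib (K := K₀) (Red.geomPt y)
  obtain ⟨n, ⟨e'⟩⟩ := RedSub30.exists_splitTorus_iso _ (RedSub30.TorusAbsorb.isTorus_bc (Red.geomPt y ≫ b) hT)
  obtain ⟨ε⟩ := MultDefLib.bialgEquiv_of_grpIso (e' ≪≫ e₀)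
  obtain ⟨φ⟩ := addEquiv_of_bialgEquiv ε
  haveI : Module.Free ℤ M := Module.Free.of_equiv φ.toIntLinearEquiv
  haveI : Module.Finite ℤ M := Module.Finite.equiv φ.toIntLinearEquiv
  refine ⟨B, b, Module.finrank ℤ M, hb, ⟨y, hy⟩, fun {K} _ x => ?_⟩
  obtain ⟨eK⟩ := hfib x
  refine (IsHomeomorph.topologicalKrullDim_eq _
    ((Over.forget _).mapIso (MultDefLib.overIso eK)).hom.homeomorph.isHomeomorph).trans ?_
  show topologicalKrullDim (PrimeSpectrum (MonoidAlgebra K (Multiplicative M))) = _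
  rw [PrimeSpectrum.topologicalKrullDim_eq_ringKrullDim, ringKrullDim_groupAlgebra]

/-- Maximal tori descend along jointly surjective families on which they are maximal. -/
theorem isMaximalTorus_of_local {κ : Type u} {V : κ → Scheme.{u}} (π : ∀ k, V k ⟶ S)
    (hsurj : ∀ s : S, ∃ k, s ∈ Set.range (π k).base) {T G : Over S} [GrpObj T] [GrpObj G] (i : T ⟶ G) [IsMonHom i]
    [Mono i] (hT : Red.IsTorus T) (hi' : ∀ k, Red.IsMaximalTorus ((Over.pullback (π k)).map i)) :
    Red.IsMaximalTorus i := by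
  refine ⟨inferInstance, inferInstance, hT, fun s R _ j _ _ f hR hf => ?_⟩
  obtain ⟨k, s', rfl⟩ := hsurj s
  obtain ⟨m, hm⟩ := ConjEtale19.exists_geomPt_lift (π k) s'
  let gv := Red.geomPt s'
  let ΦG := cmp (rfl : gv ≫ π k = gv ≫ π k) G ≪≫ (cmp hm G).symm
  let ΦT := cmp (rfl : gv ≫ π k = gv ≫ π k) T ≪≫ (cmp hm T).symm
  haveI : IsMonHom ΦG.hom := SgaFix20.isMonHom_comp _ _ inferInstance (inferInstanceAs (IsMonHom (cmp hm G).inv))
  haveI : (Over.pullback m).PreservesMonomorphisms :=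
    Functor.preservesMonomorphisms_of_adjunction (Over.mapPullbackAdj m)
  haveI : IsMonHom ((Over.pullback m).map j ≫ ΦG.inv) :=
    SgaFix20.isMonHom_comp _ _ inferInstance inferInstance
  haveI : Mono ((Over.pullback m).map j ≫ ΦG.inv) := mono_comp _ _
  haveI := (hi' k).2.2.2 s' (Red.bc m R) ((Over.pullback m).map j ≫ ΦG.inv) (ΦT.hom ≫ (Over.pullback m).map f)
    (RedSub30.TorusAbsorb.isTorus_bc m hR) (by
      rw [Category.assoc, ← Functor.map_comp_assoc, hf, ← reassoc_of% cmp_cmp_symm_naturality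
        (rfl : gv ≫ π k = gv ≫ π k) hm i, Iso.hom_inv_id, Category.comp_id])
  haveI : IsIso ((Over.pullback m).map f) := IsIso.of_isIso_comp_left ΦT.hom _
  exact isIso_of_pullback_map m f

/-- Maximal tori on the members of a family give one on their disjoint union. -/
theorem exists_maximal_sigma {κ : Type u} {V : κ → Scheme.{u}} (f : ∀ k, V k ⟶ S) (G : Over S) [GrpObj G]
    {T : ∀ k, Over (V k)} [∀ k, GrpObj (T k)] {i : ∀ k, T k ⟶ Red.bc (f k) G}
    (hmax : ∀ k, Red.IsMaximalTorus (i k)) :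
    ∃ (T' : Over (∐ V)) (_ : GrpObj T') (i' : T' ⟶ Red.bc (Sigma.desc f) G), Red.IsMaximalTorus i' := by
  haveI : ∀ k, IsMonHom (i k) := fun k => (hmax k).1
  haveI : ∀ k, Mono (i k) := fun k => (hmax k).2.1
  haveI : ∀ k, IsAffineHom (T k).hom := fun k =>
    (TransLib.multTypeFT_essFree (GrpSchLib.RankOne.isMultTypeFT_of_isTorus (hmax k).2.2.1)).1
  let ψ : ∀ k, Red.bc (Sigma.ι V k) (Red.bc (Sigma.desc f) G) ≅ Red.bc (f k) G := fun k =>
    cmp (Sigma.ι_desc f k) G
  haveI : ∀ k, IsMonHom (ψ k).hom := fun k => inferInstanceAs (IsMonHom (cmp (Sigma.ι_desc f k) G).hom)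
  let j : ∀ k, T k ⟶ Red.bc (Sigma.ι V k) (Red.bc (Sigma.desc f) G) := fun k => i k ≫ (ψ k).inv
  have hj : ∀ k, Red.IsMaximalTorus (j k) := fun k =>
    haveI : IsMonHom (ψ k).symm.hom := inferInstanceAs (IsMonHom (ψ k).inv)
    isMaximalTorus_comp_iso (hmax k) (ψ k).symm
  haveI : ∀ k, IsMonHom (j k) := fun k => (hj k).1
  haveI : ∀ k, Mono (j k) := fun k => (hj k).2.1
  have hsurj : ∀ z : (∐ V : Scheme.{u}), ∃ k, z ∈ Set.range (Sigma.ι V k).base := fun z => by
    obtain ⟨k, y, rfl⟩ := (sigmaOpenCover V).exists_eq z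
    exact ⟨k, y, rfl⟩
  have hmem : Presieve.ofArrows V (Sigma.ι V) ∈ Scheme.fpqcPrecoverage (∐ V) := by
    refine Scheme.fppfPrecoverage_le_fpqcPrecoverage _ ?_
    rw [Scheme.fppfPrecoverage, Scheme.ofArrows_mem_precoverage_iff]
    exact ⟨fun x => hsurj x, fun k => ⟨inferInstance, inferInstance⟩⟩
  have hinv : IsFamInvariant (Sigma.ι V) j := by
    intro p q W a b hab v hv
    by_cases hpq : p = q
    · subst hpq
      exact ⟨v, hv.trans ((cancel_mono (Sigma.ι V p)).1 hab), rfl⟩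
    · haveI : IsEmpty ↥W := ⟨fun w => hpq (by
        have h1 : Sigma.ι V p (a w) = Sigma.ι V q (b w) := by
          rw [← Scheme.Hom.comp_apply, ← Scheme.Hom.comp_apply, hab]
        exact (Sigma.mk.inj_iff.1 ((sigmaι_eq_iff _ _ _ _ _).1 h1)).1)⟩
      haveI : Subsingleton (W ⟶ V q) := ⟨fun x y => isInitialOfIsEmpty.hom_ext x y⟩
      haveI : Subsingleton (W ⟶ G.left) := ⟨fun x y => isInitialOfIsEmpty.hom_ext x y⟩
      exact ⟨isInitialOfIsEmpty.to _, Subsingleton.elim _ _, isInitialOfIsEmpty.hom_ext _ _⟩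
  obtain ⟨T', grpT, i', φ, hmon, hmono, hφ⟩ := exists_descent_family hmem hinv
  haveI := hmon
  haveI := hmono
  have hi' : ∀ k, Red.IsMaximalTorus ((Over.pullback (Sigma.ι V k)).map i') := fun k =>
    hφ k ▸ isMaximalTorus_iso_comp (hj k) (φ k)
  exact ⟨T', grpT, i', isMaximalTorus_of_local (Sigma.ι V) hsurj i'
    (isTorus_of_family (fun k => inferInstance) (fun k => (Sigma.ι V k).isOpenMap) hsurj fun k => (hi' k).2.2.1) hi'⟩

/-- Maximal tori on a jointly surjective etale family give one on an etale surjective base change. -/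
theorem hasMaxTorusEtaleLocally_of_family {κ : Type u} {V : κ → Scheme.{u}} (f : ∀ k, V k ⟶ S)
    (hf : ∀ k, Etale (f k)) (hsurj : ∀ s : S, ∃ k, s ∈ Set.range (f k).base) (G : Over S) [GrpObj G]
    (h : ∀ k, ∃ (T : Over (V k)) (_ : GrpObj T) (i : T ⟶ Red.bc (f k) G), Red.IsMaximalTorus i) :
    SGA3x.HasMaxTorusEtaleLocally G := by
  choose T iT i hi using h
  letI := iT
  obtain ⟨T', _, i', h'⟩ := exists_maximal_sigma f G hi
  refine ⟨∐ V, Sigma.desc f, IsZariskiLocalAtSource.sigmaDesc hf, ⟨fun s => ?_⟩, T', inferInstance, i', h'⟩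
  obtain ⟨k, y, rfl⟩ := hsurj s
  exact ⟨Sigma.ι V k y, by rw [← Scheme.Hom.comp_apply, Sigma.ι_desc]⟩

end Groth.Agent.MaxTorusLib
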