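import Groth.Agent.MaxTorusLib.TorusNbhd
import Groth.Agent.MaxTorusLib.MaxBC
import Groth.Agent.MaxTorusLib.CentralDescent
import Groth.Agent.TorusCent19.Conj
import Groth.Agent.GrpSchLib.NeutralSub
import Groth.Agent.S1618
import Groth.Agent.AVIdx.TrivTorus
import Mathlib

/-!
# The reductive rank: existence of maximal tori over algebraically closed fields and equality of their dimensions
-/

universe u

open CategoryTheory CategoryTheory.Limits MonoidalCategory CartesianMonoidalCategory AlgebraicGeometry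
open scoped MonObj

set_option backward.isDefEq.respectTransparency false
set_option backward.isDefEq.respectTransparency.types false
set_option linter.style.haveILetI false
set_option synthInstance.maxHeartbeats 200000
set_option maxHeartbeats 1000000

noncomputable section

namespace Groth.Agent.MaxTorusLib

variable {k : Type u} [Field k]

local notation "𝕊" => Spec (CommRingCat.of k)

/-- The dimension of an affine scheme of finite type over a field is bounded. -/
theorem exists_dim_bound {X : Scheme.{u}} [IsAffine X] (f : X ⟶ Spec (CommRingCat.of k)) [LocallyOfFiniteType f] :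
    ∃ N : ℕ, topologicalKrullDim ↥X ≤ (N : WithBot ℕ∞) := by
  obtain ⟨φ, hφ⟩ := Spec.map_surjective (X.isoSpec.inv ≫ f)
  have hft : φ.hom.FiniteType := by
    rw [← HasRingHomProperty.Spec_iff (P := @LocallyOfFiniteType), hφ]
    infer_instance
  letI := φ.hom.toAlgebra
  haveI : Algebra.FiniteType k Γ(X, ⊤) := hft
  obtain ⟨n, g, hg⟩ := Algebra.FiniteType.iff_quotient_mvPolynomial''.mp (inferInstance : Algebra.FiniteType k Γ(X, ⊤))
  refine ⟨n, ?_⟩
  rw [IsHomeomorph.topologicalKrullDim_eq _ X.isoSpec.hom.homeomorph.isHomeomorph]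
  show topologicalKrullDim (PrimeSpectrum Γ(X, ⊤)) ≤ _
  rw [PrimeSpectrum.topologicalKrullDim_eq_ringKrullDim]
  refine (ringKrullDim_le_of_surjective g.toRingHom hg).trans ?_
  rw [MvPolynomial.ringKrullDim_of_isNoetherianRing, ringKrullDim_eq_zero_of_field, zero_add]
  simp

variable [IsAlgClosed k]

/-- The ranks of the subtori of a group of finite type are bounded. -/
theorem exists_torus_bound (G : Over 𝕊) [GrpObj G] [QuasiCompact G.hom] [LocallyOfFiniteType G.hom] :
    ∃ N : ℕ, ∀ (T : Over 𝕊) [GrpObj T] (j : T ⟶ G) [IsMonHom j] [Mono j], Red.IsTorus T →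
      topologicalKrullDim ↥T.left ≤ (N : WithBot ℕ∞) := by
  haveI := GrpSchLib.AntiAffine.isSeparated_grp G
  let e₀ : G.left := η[G].left (IsLocalRing.closedPoint k)
  obtain ⟨U, hU, he, -⟩ := exists_isAffineOpen_mem_and_subset (show e₀ ∈ (⊤ : G.left.Opens) from trivial)
  haveI : IsAffine (U : Scheme.{u}) := hU
  obtain ⟨N, hN⟩ := exists_dim_bound (U.ι ≫ G.hom)
  refine ⟨N, fun T _ j _ _ hT => ?_⟩
  haveI := isClosedImmersion_of_torus hT j
  obtain ⟨n, ⟨e⟩⟩ := RedSub30.exists_splitTorus_iso T hT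
  let φ := (Over.forget 𝕊).mapIso (MultDefLib.overIso e)
  haveI : IrreducibleSpace ↥T.left := by
    haveI : IrreducibleSpace (PrimeSpectrum (MonoidAlgebra k (Multiplicative (Fin n → ℤ)))) := inferInstance
    haveI : IrreducibleSpace ↥((Over.forget 𝕊).obj (RedSub30.splitTorus k n)) :=
      inferInstanceAs (IrreducibleSpace (PrimeSpectrum (MonoidAlgebra k (Multiplicative (Fin n → ℤ)))))
    have h := ((IrreducibleSpace.isIrreducible_univ _).image _ (Scheme.homeoOfIso φ).continuous.continuousOn)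
    rw [Set.image_univ, (Scheme.homeoOfIso φ).surjective.range_eq] at h
    exact { isPreirreducible_univ := h.2, toNonempty := h.1.to_type }
  letI : T.left.Over 𝕊 := ⟨T.hom⟩
  haveI : LocallyOfFiniteType (T.left ↘ 𝕊) := by
    show LocallyOfFiniteType T.hom
    rw [← Over.w j]
    infer_instance
  let W : T.left.Opens := j.left ⁻¹ᵁ U
  have hne : (W : Set T.left).Nonempty := ⟨η[T].left (IsLocalRing.closedPoint k), by
    show j.left (η[T].left _) ∈ U
    rw [← Scheme.Hom.comp_apply, ← Over.comp_left, IsMonHom.one_hom]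
    exact he⟩
  rw [← Groth.Agent.S1618.result k T.left W hne]
  exact ((j.left ∣_ U).isClosedEmbedding.isInducing.topologicalKrullDim_le).trans hN

/-- A torus maximal among the subtori over an algebraically closed field is a maximal torus. -/
theorem isMaximalTorus_of_forall {T G : Over 𝕊} [GrpObj T] [GrpObj G] (i : T ⟶ G) [IsMonHom i] [Mono i]
    (hT : Red.IsTorus T) (hmax : ∀ (T' : Over 𝕊) [GrpObj T'] (j : T' ⟶ G) [IsMonHom j] [Mono j] (f : T ⟶ T'),
      Red.IsTorus T' → f ≫ j = i → IsIso f) : Red.IsMaximalTorus i := by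
  refine ⟨inferInstance, inferInstance, hT, fun s T' _ j _ _ f hT' hf => ?_⟩
  haveI := isIso_geomPt s
  let g := Red.geomPt s
  let g' := inv g
  haveI : (Over.pullback g').PreservesMonomorphisms :=
    Functor.preservesMonomorphisms_of_adjunction (Over.mapPullbackAdj g')
  let Φ : Over.pullback g ⋙ Over.pullback g' ≅ 𝟭 _ :=
    (Over.pullbackComp g' g).symm ≪≫ eqToIso (congrArg (fun m => Over.pullback m) (IsIso.inv_hom_id g)) ≪≫
      Over.pullbackId
  haveI hΦ : IsMonHom (M := Red.bc g' (Red.bc g G)) (N := G) (Φ.hom.app G) :=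
    (((Functor.mapGrpCompIso).symm ≪≫ Functor.mapGrpNatIso Φ ≪≫ Functor.mapGrpIdIso).app (Grp.mk G)).hom.hom.isMonHom_hom
  haveI : IsIso (Φ.hom.app G) := inferInstance
  let t'' : Red.bc g' T' ⟶ G := (Over.pullback g').map j ≫ Φ.hom.app G
  haveI : IsMonHom t'' := SgaFix20.isMonHom_comp (Y := Red.bc g' (Red.bc g G)) _ _ inferInstance hΦ
  haveI : Mono t'' := mono_comp _ _
  let f'' : T ⟶ Red.bc g' T' := Φ.inv.app T ≫ (Over.pullback g').map f
  have hf'' : f'' ≫ t'' = i := by
    show (Φ.inv.app T ≫ _) ≫ (Over.pullback g').map j ≫ Φ.hom.app G = _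
    rw [Category.assoc, ← Functor.map_comp_assoc, hf]
    have hn := Φ.hom.naturality i
    rw [Functor.comp_map, Functor.id_map] at hn
    rw [hn, Iso.inv_hom_id_app_assoc]
  haveI := hmax (Red.bc g' T') t'' f'' (RedSub30.TorusAbsorb.isTorus_bc g' hT') hf''
  haveI : IsIso (Φ.inv.app T) := inferInstance
  exact isIso_of_map_isIso g' f (IsIso.of_isIso_comp_left (Φ.inv.app T) _)

/-- Every subtorus lies in a maximal torus. -/
theorem exists_maximal_containing (G : Over 𝕊) [GrpObj G] [QuasiCompact G.hom] [LocallyOfFiniteType G.hom]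
    {R : Over 𝕊} [GrpObj R] (hR : Red.IsTorus R) (j : R ⟶ G) [IsMonHom j] [Mono j] :
    ∃ (T : Over 𝕊) (_ : GrpObj T) (i : T ⟶ G) (l : R ⟶ T), Red.IsMaximalTorus i ∧ l ≫ i = j := by
  classical
  obtain ⟨N, hN⟩ := exists_torus_bound G
  let P : ℕ → Prop := fun n => ∃ (T : Over 𝕊) (_ : GrpObj T) (i : T ⟶ G) (l : R ⟶ T),
    IsMonHom i ∧ Mono i ∧ Red.IsTorus T ∧ l ≫ i = j ∧ topologicalKrullDim ↥T.left = (n : WithBot ℕ∞)
  obtain ⟨n₀, -, hn₀, -⟩ := exists_rank_torus hR
  have hP : ∃ n, P n := ⟨n₀, R, inferInstance, j, 𝟙 R, inferInstance, inferInstance, hR, Category.id_comp _, hn₀⟩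
  have hb : ∀ n, P n → n ≤ N := by
    rintro n ⟨T, _, i, l, hi, hm, hT, -, hd⟩
    haveI := hi
    haveI := hm
    have h := hN T i hT
    rw [hd] at h
    exact_mod_cast h
  have hsp : P (Nat.findGreatest P N) := Nat.findGreatest_spec (hb _ hP.choose_spec) hP.choose_spec
  obtain ⟨T, _, i, l, hi, hm, hT, hl, hd⟩ := hsp
  haveI := hi
  haveI := hm
  refine ⟨T, inferInstance, i, l, isMaximalTorus_of_forall i hT fun T' _ j' _ _ f hT' hf => ?_, hl⟩
  haveI : Mono (f ≫ j') := by rw [hf]; infer_instance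
  haveI : Mono f := mono_of_mono f j'
  haveI : IsMonHom f := SgaFix20.isMonHom_of_comp_mono hf
  obtain ⟨n', hn', hd', -⟩ := exists_rank_torus hT'
  obtain ⟨m, hm', hdm, -⟩ := exists_rank_torus hT
  have h1 : n' ≤ Nat.findGreatest P N :=
    Nat.le_findGreatest (hb _ ⟨T', inferInstance, j', l ≫ f, inferInstance, inferInstance, hT',
      by rw [Category.assoc, hf, hl], hd'⟩)
      ⟨T', inferInstance, j', l ≫ f, inferInstance, inferInstance, hT', by rw [Category.assoc, hf, hl], hd'⟩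
  have h2 : m = Nat.findGreatest P N := by
    rw [hdm] at hd
    exact_mod_cast hd
  refine isIso_of_dim_eq hT hT' f ?_
  haveI : Nonempty ↥(Spec (CommRingCat.of k)) := ⟨IsLocalRing.closedPoint k⟩
  rw [hdm, hd', le_antisymm (hm'.le hn' f) (h2 ▸ h1)]

/-- A maximal torus exists. -/
theorem exists_maximalTorus_algClosed (G : Over 𝕊) [GrpObj G] [QuasiCompact G.hom] [LocallyOfFiniteType G.hom] :
    ∃ (T : Over 𝕊) (_ : GrpObj T) (i : T ⟶ G), Red.IsMaximalTorus i := by
  obtain ⟨hU, hj⟩ : Red.IsTorus (𝟙_ (Over 𝕊)) ∧ Mono (η[G]) :=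
    ⟨AVIdx.TrivTorus.isTorus_unit, ⟨fun a b _ => toUnit_unique a b⟩⟩
  haveI := hj
  haveI : IsMonHom (η[G] : 𝟙_ (Over 𝕊) ⟶ G) := inferInstance
  obtain ⟨T, iT, i, -, hi, -⟩ := exists_maximal_containing G hU η[G]
  exact ⟨T, iT, i, hi⟩

/-- A smooth group of finite type has a connected open subgroup containing every maximal torus. -/
theorem exists_connected_open_subgroup (G : Over 𝕊) [GrpObj G] [Smooth G.hom] [QuasiCompact G.hom] :
    ∃ (G0 : Over 𝕊) (_ : GrpObj G0) (c : G0 ⟶ G), IsMonHom c ∧ Mono c ∧ Smooth G0.hom ∧ QuasiCompact G0.hom ∧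
      ConnectedSpace ↥G0.left ∧ ∀ (T : Over 𝕊) [GrpObj T] (i : T ⟶ G), Red.IsMaximalTorus i →
        ∃ i' : T ⟶ G0, i' ≫ c = i ∧ Red.IsMaximalTorus i' := by
  obtain ⟨G0, _, c, hc, hco, hr, hsm, hqc⟩ := GrpSchLib.NeutralSub.exists_smooth_openSubgroup (G := G)
    ⟨⊤, inferInstance, fun p => trivial⟩
  haveI := hc
  haveI := hco
  haveI := hsm
  haveI := hqc
  haveI : Mono c := Over.mono_of_mono_left c
  have hu : ∀ p : ↥(𝟙_ (Over 𝕊)).left, p = IsLocalRing.closedPoint k := fun p =>
    Subsingleton.elim (α := PrimeSpectrum k) p _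
  have hN : SGA3x.neutralSet G = connectedComponent (η[G].left (IsLocalRing.closedPoint k)) := by
    ext x
    simp only [SGA3x.neutralSet, Set.mem_iUnion]
    have hf : G.hom.base ⁻¹' {(𝟙_ (Over 𝕊)).hom.base (IsLocalRing.closedPoint k)} = Set.univ :=
      Set.eq_univ_of_forall fun y => Subsingleton.elim (α := PrimeSpectrum k) _ _
    constructor
    · rintro ⟨p, hp⟩
      obtain rfl := hu p
      rwa [hf, connectedComponentIn_univ] at hp
    · exact fun hx => ⟨IsLocalRing.closedPoint k, by rwa [hf, connectedComponentIn_univ]⟩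
  haveI : ConnectedSpace ↥G0.left := by
    have h : _root_.IsConnected (Set.range c.left) := by
      rw [hr, hN]
      exact isConnected_connectedComponent
    haveI := Subtype.connectedSpace h
    exact Function.Surjective.connectedSpace c.left.isOpenEmbedding.toIsEmbedding.toHomeomorph.symm.surjective
      c.left.isOpenEmbedding.toIsEmbedding.toHomeomorph.symm.continuous
  have hlift : ∀ {T : Over 𝕊} [GrpObj T] {i : T ⟶ G}, Red.IsMaximalTorus i →
      ∃ i' : T ⟶ G0, i' ≫ c = i ∧ Red.IsMaximalTorus i' := by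
    intro T _ i hi
    haveI := hi.1
    haveI : ConnectedSpace ↥T.left := (AGFRoot.SolvSch.torus_facts hi.2.2.1).2.2.1
    have hrange : Set.range i.left ⊆ Set.range c.left := by
      rw [hr, hN]
      refine (isConnected_range i.left.continuous).subset_connectedComponent ⟨η[T].left (IsLocalRing.closedPoint k), ?_⟩
      rw [← Scheme.Hom.comp_apply, ← Over.comp_left, IsMonHom.one_hom]
    let i' : T ⟶ G0 := Over.homMk (IsOpenImmersion.lift c.left i.left hrange) (by
      rw [← Over.w c, ← Category.assoc, IsOpenImmersion.lift_fac, Over.w i])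
    have hi' : i' ≫ c = i := Over.OverMorphism.ext (IsOpenImmersion.lift_fac _ _ _)
    exact ⟨i', hi', isMaximalTorus_of_factor hi c i' hi'⟩
  exact ⟨G0, inferInstance, c, hc, inferInstance, hsm, hqc, inferInstance, fun T _ i hi => hlift hi⟩

/-- Maximal tori of a smooth group of finite type over an algebraically closed field are conjugate. -/
theorem exists_conj_algClosed {G T₁ T₂ : Over 𝕊} [GrpObj G] [GrpObj T₁] [GrpObj T₂] [Smooth G.hom]
    [QuasiCompact G.hom] {i₁ : T₁ ⟶ G} {i₂ : T₂ ⟶ G} (h₁ : Red.IsMaximalTorus i₁) (h₂ : Red.IsMaximalTorus i₂) :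
    ∃ (g : 𝟙_ (Over 𝕊) ⟶ G) (φ : T₁ ≅ T₂), AGF.conjBy g i₁ = φ.hom ≫ i₂ := by
  obtain ⟨G0, _, c, hc, hm, hsm, hqc, hcn, hlift⟩ := exists_connected_open_subgroup G
  haveI := hc
  haveI := hsm
  haveI := hqc
  haveI := hcn
  obtain ⟨a, ha', ha⟩ := hlift T₁ i₁ h₁
  obtain ⟨b, hb', hb⟩ := hlift T₂ i₂ h₂
  obtain ⟨g, φ, hg⟩ := TorusCent19.exists_conj ha hb
  exact ⟨g ≫ c, φ, by rw [← ha', ← hb', ← AGFRoot.conjBy_comp, hg, Category.assoc]⟩

/-- Any two maximal tori of a smooth group of finite type have the same dimension. -/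
theorem dim_eq_of_maximal {G T₁ T₂ : Over 𝕊} [GrpObj G] [GrpObj T₁] [GrpObj T₂] [Smooth G.hom] [QuasiCompact G.hom]
    {i₁ : T₁ ⟶ G} {i₂ : T₂ ⟶ G} (h₁ : Red.IsMaximalTorus i₁) (h₂ : Red.IsMaximalTorus i₂) :
    topologicalKrullDim ↥T₁.left = topologicalKrullDim ↥T₂.left := by
  obtain ⟨-, φ, -⟩ := exists_conj_algClosed h₁ h₂
  exact IsHomeomorph.topologicalKrullDim_eq _ ((Over.forget 𝕊).mapIso φ).hom.homeomorph.isHomeomorph

/-- A subtorus of the dimension of a maximal torus is a maximal torus. -/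
theorem isMaximalTorus_of_dim {G T₁ T : Over 𝕊} [GrpObj G] [GrpObj T₁] [GrpObj T] [Smooth G.hom] [QuasiCompact G.hom]
    {i₁ : T₁ ⟶ G} (h₁ : Red.IsMaximalTorus i₁) (hT : Red.IsTorus T) (i : T ⟶ G) [IsMonHom i] [Mono i]
    (hd : topologicalKrullDim ↥T.left = topologicalKrullDim ↥T₁.left) : Red.IsMaximalTorus i := by
  obtain ⟨T₂, _, i₂, l, hi₂, hl⟩ := exists_maximal_containing G hT i
  haveI := hi₂.1
  haveI := hi₂.2.1
  haveI : Mono (l ≫ i₂) := by rw [hl]; infer_instance
  haveI : Mono l := mono_of_mono l i₂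
  haveI : IsMonHom l := SgaFix20.isMonHom_of_comp_mono hl
  haveI := isIso_of_dim_eq hT hi₂.2.2.1 l (hd.trans (dim_eq_of_maximal h₁ hi₂))
  haveI : IsMonHom (asIso l).hom := inferInstanceAs (IsMonHom l)
  have h := isMaximalTorus_iso_comp hi₂ (Grp.mkIso' (asIso l))
  exact (show (Grp.mkIso' (asIso l)).hom.hom.hom ≫ i₂ = i from hl) ▸ h

end Groth.Agent.MaxTorusLib
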