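import Groth.Agent.MaxTorusLib.RankConj
import Groth.Agent.MaxTorusLib.CentralFamily
import Groth.Agent.ConjEtale19.Split
import Mathlib

/-!
# The reductive rank of a smooth group as a function on the base
-/

universe u

open CategoryTheory CategoryTheory.Limits MonoidalCategory CartesianMonoidalCategory AlgebraicGeometry
open scoped MonObj

set_option backward.isDefEq.respectTransparency false
set_option backward.isDefEq.respectTransparency.types false
set_option linter.style.haveILetI false
set_option synthInstance.maxHeartbeats 200000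
set_option maxHeartbeats 1000000

noncomputable section

namespace Groth.Agent.MaxTorusLib

open GrpLimLib (cmp)

variable {S : Scheme.{u}}

/-- A monomorphism of tori does not lower the dimension. -/
theorem dim_le_of_mono {k : Type u} [Field k] [IsAlgClosed k] {T T' : Over (Spec (CommRingCat.of k))} [GrpObj T]
    [GrpObj T'] (hT : Red.IsTorus T) (hT' : Red.IsTorus T') (v : T ⟶ T') [IsMonHom v] [Mono v] :
    topologicalKrullDim ↥T.left ≤ topologicalKrullDim ↥T'.left := by
  obtain ⟨n, hn, hd, -⟩ := exists_rank_torus hT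
  obtain ⟨n', hn', hd', -⟩ := exists_rank_torus hT'
  haveI : Nonempty ↥(Spec (CommRingCat.of k)) := ⟨IsLocalRing.closedPoint k⟩
  rw [hd, hd']
  exact_mod_cast hn.le hn' v

/-- The dimension of the maximal tori at a point with values in an algebraically closed field is that of the
geometric point below. -/
theorem dim_maximal_pt {G : Over S} [GrpObj G] [Smooth G.hom] [QuasiCompact G.hom] {K : Type u} [Field K]
    [IsAlgClosed K] {x : Spec (CommRingCat.of K) ⟶ S} {t : S}
    (m : Spec (CommRingCat.of K) ⟶ Spec (CommRingCat.of (AlgebraicClosure (S.residueField t))))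
    (hm : m ≫ Red.geomPt t = x) {T₁ : Over (Spec (CommRingCat.of (AlgebraicClosure (S.residueField t))))} [GrpObj T₁]
    {i₁ : T₁ ⟶ Red.geomFibre t G} (h₁ : Red.IsMaximalTorus i₁) {T : Over (Spec (CommRingCat.of K))} [GrpObj T]
    {i : T ⟶ Red.bc x G} (hi : Red.IsMaximalTorus i) :
    topologicalKrullDim ↥T.left = topologicalKrullDim ↥T₁.left := by
  haveI : QuasiCompact (Red.geomFibre t G).hom := inferInstanceAs (QuasiCompact (pullback.snd G.hom (Red.geomPt t)))
  haveI : LocallyOfFiniteType (Red.geomFibre t G).hom :=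
    inferInstanceAs (LocallyOfFiniteType (pullback.snd G.hom (Red.geomPt t)))
  haveI : Smooth (Red.bc x G).hom := inferInstanceAs (Smooth (pullback.snd G.hom x))
  haveI : QuasiCompact (Red.bc x G).hom := inferInstanceAs (QuasiCompact (pullback.snd G.hom x))
  have h := isMaximalTorus_comp_iso (isMaximalTorus_bc m h₁) (cmp hm G)
  obtain ⟨n, -, hn, hn'⟩ := exists_rank_torus h₁.2.2.1
  rw [dim_eq_of_maximal hi h, hn, hn' m]

/-- The reductive rank is the dimension of any maximal torus at a point over it. -/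
theorem hasRedRank_of_pt {G : Over S} [GrpObj G] [Smooth G.hom] [QuasiCompact G.hom] {U : Scheme.{u}} (g : U ⟶ S)
    (v : U) {T : Over (Spec (CommRingCat.of (AlgebraicClosure (U.residueField v))))} [GrpObj T]
    {i : T ⟶ Red.bc (Red.geomPt v ≫ g) G} (hi : Red.IsMaximalTorus i) :
    SGA3x.HasRedRank G (g.base v) (topologicalKrullDim ↥T.left) := by
  haveI : QuasiCompact (Red.geomFibre (g.base v) G).hom :=
    inferInstanceAs (QuasiCompact (pullback.snd G.hom (Red.geomPt (g.base v))))
  haveI : LocallyOfFiniteType (Red.geomFibre (g.base v) G).hom :=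
    inferInstanceAs (LocallyOfFiniteType (pullback.snd G.hom (Red.geomPt (g.base v))))
  obtain ⟨T₁, _, i₁, h₁⟩ := exists_maximalTorus_algClosed (Red.geomFibre (g.base v) G)
  obtain ⟨m, hm⟩ := ConjEtale19.exists_geomPt_lift g v
  exact ⟨T₁, inferInstance, i₁, h₁, (dim_maximal_pt m hm h₁ hi).symm⟩

/-- The rank at a point in the image of an etale neighbourhood carrying a torus is at least its dimension. -/
theorem exists_hasRedRank_ge {G : Over S} [GrpObj G] [Smooth G.hom] [QuasiCompact G.hom] {V : Scheme.{u}} (f : V ⟶ S)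
    {H : Over S} [GrpObj H] (hH : Red.IsTorus H) (u : Red.bc f H ⟶ Red.bc f G) [IsMonHom u] [Mono u] (v : V) :
    ∃ r, SGA3x.HasRedRank G (f.base v) r ∧ topologicalKrullDim ↥(Red.bc (Red.geomPt v ≫ f) H).left ≤ r := by
  let gv := Red.geomPt v
  let x := gv ≫ f
  haveI : QuasiCompact (Red.bc x G).hom := inferInstanceAs (QuasiCompact (pullback.snd G.hom x))
  haveI : LocallyOfFiniteType (Red.bc x G).hom := inferInstanceAs (LocallyOfFiniteType (pullback.snd G.hom x))
  haveI : (Over.pullback gv).PreservesMonomorphisms :=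
    Functor.preservesMonomorphisms_of_adjunction (Over.mapPullbackAdj gv)
  let cH := cmp (rfl : gv ≫ f = x) H
  let cG := cmp (rfl : gv ≫ f = x) G
  let u' : Red.bc x H ⟶ Red.bc x G := cH.inv ≫ (Over.pullback gv).map u ≫ cG.hom
  haveI : IsMonHom u' :=
    SgaFix20.isMonHom_comp cH.inv _ inferInstance (SgaFix20.isMonHom_comp _ _ inferInstance inferInstance)
  haveI : Mono u' := mono_comp _ _
  have hH' := RedSub30.TorusAbsorb.isTorus_bc x hH
  obtain ⟨T, _, i, l, hi, hl⟩ := exists_maximal_containing (Red.bc x G) hH' u'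
  haveI := hi.1
  haveI := hi.2.1
  haveI : Mono (l ≫ i) := by rw [hl]; infer_instance
  haveI : Mono l := mono_of_mono l i
  haveI : IsMonHom l := SgaFix20.isMonHom_of_comp_mono hl
  exact ⟨_, hasRedRank_of_pt f v hi, dim_le_of_mono hH' hi.2.2.1 l⟩

/-- Where the rank is constant, a torus of that dimension over an etale neighbourhood is a maximal torus. -/
theorem isMaximalTorus_of_rank {G : Over S} [GrpObj G] [Smooth G.hom] [QuasiCompact G.hom] {V : Scheme.{u}}
    (g : V ⟶ S) {H : Over S} [GrpObj H] (hH : Red.IsTorus H) (u : Red.bc g H ⟶ Red.bc g G) [IsMonHom u] [Mono u]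
    (r : WithBot ℕ∞) (hr : ∀ v : V, SGA3x.HasRedRank G (g.base v) r)
    (hd : ∀ v : V, topologicalKrullDim ↥(Red.bc (Red.geomPt v ≫ g) H).left = r) : Red.IsMaximalTorus u := by
  refine ⟨inferInstance, inferInstance, RedSub30.TorusAbsorb.isTorus_bc g hH, fun v R _ j _ _ φ hR hφ => ?_⟩
  obtain ⟨T₁, _, i₁, h₁, hd₁⟩ := hr v
  obtain ⟨m, hm⟩ := ConjEtale19.exists_geomPt_lift g v
  let gv := Red.geomPt v
  haveI : Smooth (Red.geomFibre v (Red.bc g G)).hom := by
    haveI : Smooth (Red.bc g G).hom := inferInstanceAs (Smooth (pullback.snd G.hom g))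
    exact inferInstanceAs (Smooth (pullback.snd (Red.bc g G).hom gv))
  haveI : QuasiCompact (Red.geomFibre v (Red.bc g G)).hom := by
    haveI : QuasiCompact (Red.bc g G).hom := inferInstanceAs (QuasiCompact (pullback.snd G.hom g))
    exact inferInstanceAs (QuasiCompact (pullback.snd (Red.bc g G).hom gv))
  haveI : QuasiCompact (Red.geomFibre (g.base v) G).hom :=
    inferInstanceAs (QuasiCompact (pullback.snd G.hom (Red.geomPt (g.base v))))
  haveI : LocallyOfFiniteType (Red.geomFibre (g.base v) G).hom :=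
    inferInstanceAs (LocallyOfFiniteType (pullback.snd G.hom (Red.geomPt (g.base v))))
  let ΦG := cmp hm G ≪≫ (cmp (rfl : gv ≫ g = gv ≫ g) G).symm
  haveI : IsMonHom ΦG.hom := SgaFix20.isMonHom_comp _ _ inferInstance (inferInstanceAs (IsMonHom (cmp (rfl : gv ≫ g = gv ≫ g) G).inv))
  have hM := isMaximalTorus_comp_iso (isMaximalTorus_bc m h₁) ΦG
  obtain ⟨n, -, hn, hn'⟩ := exists_rank_torus h₁.2.2.1
  haveI : (Over.pullback gv).PreservesMonomorphisms :=
    Functor.preservesMonomorphisms_of_adjunction (Over.mapPullbackAdj gv)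
  have hP := RedSub30.TorusAbsorb.isTorus_bc gv (RedSub30.TorusAbsorb.isTorus_bc g hH)
  have hmax : Red.IsMaximalTorus ((Over.pullback gv).map u) := isMaximalTorus_of_dim hM hP _
    ((IsHomeomorph.topologicalKrullDim_eq _ ((Over.forget _).mapIso
      (cmp (rfl : gv ≫ g = gv ≫ g) H)).hom.homeomorph.isHomeomorph).trans (by
        refine (hd v).trans ?_
        rw [hn' m, ← hn, hd₁]))
  haveI : Mono (φ ≫ j) := by rw [hφ]; infer_instance
  haveI : Mono φ := mono_of_mono φ j
  haveI : IsMonHom φ := SgaFix20.isMonHom_of_comp_mono hφ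
  obtain ⟨T₂, _, i₂, l, h₂, hl⟩ := exists_maximal_containing _ hR j
  haveI := h₂.1
  haveI := h₂.2.1
  haveI : Mono (l ≫ i₂) := by rw [hl]; infer_instance
  haveI : Mono l := mono_of_mono l i₂
  haveI : IsMonHom l := SgaFix20.isMonHom_of_comp_mono hl
  haveI : IsMonHom (φ ≫ l) := SgaFix20.isMonHom_comp _ _ inferInstance inferInstance
  haveI : Mono (φ ≫ l) := mono_comp _ _
  haveI : IsIso (φ ≫ l) := isIso_of_dim_eq hP h₂.2.2.1 _ (dim_eq_of_maximal hmax h₂)
  haveI : IsSplitEpi l := IsSplitEpi.mk' ⟨inv (φ ≫ l) ≫ φ, by rw [Category.assoc, IsIso.inv_hom_id]⟩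
  haveI : IsIso l := isIso_of_mono_of_isSplitEpi l
  exact IsIso.of_isIso_comp_right φ l

end Groth.Agent.MaxTorusLib
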