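import Groth.Agent.MaxTorusLib.ConjSep
import Groth.Agent.MaxTorusLib.RankFun
import Mathlib

/-!
# Maximal tori of separated smooth groups are conjugate etale locally
-/

universe u

open CategoryTheory CategoryTheory.Limits MonoidalCategory CartesianMonoidalCategory AlgebraicGeometry
open scoped MonObj

set_option backward.isDefEq.respectTransparency false
set_option backward.isDefEq.respectTransparency.types false
set_option linter.style.haveILetI false

noncomputable section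

namespace Groth.Agent.MaxTorusLib

open DSPtsLib (theta theta_comp theta_mul theta_bijective)
open MultDefLib (theta_inv theta_surjective)
open GrpSchLib.RankOne (theta_map)

variable {S : Scheme.{u}}

/-- The point `g` conjugates the first subgroup onto the second, universally. -/
def ConjPt {H₁ H₂ G : Over S} [GrpObj G] (i₁ : H₁ ⟶ G) (i₂ : H₂ ⟶ G) {P : Over S} (g : P ⟶ G) : Prop :=
  ∀ (X : Over S) (p : X ⟶ P),
    (∀ a : X ⟶ H₁, ∃ b : X ⟶ H₂, (p ≫ g) * (a ≫ i₁) * (p ≫ g)⁻¹ = b ≫ i₂) ∧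
    (∀ b : X ⟶ H₂, ∃ a : X ⟶ H₁, (p ≫ g)⁻¹ * (b ≫ i₂) * (p ≫ g) = a ≫ i₁)

/-- A point of a base change conjugating the pulled back subgroups gives a conjugating point over the base. -/
theorem conjPt_of_conjBy {U : Scheme.{u}} (f : U ⟶ S) {H₁ H₂ G : Over S} [GrpObj G] (i₁ : H₁ ⟶ G) (i₂ : H₂ ⟶ G)
    (g : 𝟙_ (Over U) ⟶ Red.bc f G)
    (hg : SGA3x.ConjBy ((Over.pullback f).map i₁) ((Over.pullback f).map i₂) g) :
    ∃ g₀ : Over.mk f ⟶ G, ConjPt i₁ i₂ g₀ := by
  obtain ⟨φ, hφ⟩ := hg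
  let e : Over.mk f ⟶ (Over.map f).obj (𝟙_ (Over U)) :=
    Over.homMk (𝟙 U) ((Category.id_comp _).trans (Category.id_comp f))
  refine ⟨e ≫ theta f g, fun X p => ?_⟩
  let Y : Over U := Over.mk p.left
  let d : X ⟶ (Over.map f).obj Y := Over.homMk (𝟙 _) ((Category.id_comp _).trans (Over.w p))
  let d' : (Over.map f).obj Y ⟶ X := Over.homMk (𝟙 _) ((Category.id_comp _).trans (Over.w p).symm)
  have hd : d ≫ d' = 𝟙 X := Over.OverMorphism.ext (Category.id_comp _)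
  have hp : p ≫ e ≫ theta f g = d ≫ theta f (toUnit Y ≫ g) := by
    rw [theta_comp, ← Category.assoc p, ← Category.assoc d]
    congr 1
  have key : ∀ h : Y ⟶ Red.bc f H₁,
      theta f (toUnit Y ≫ g) * (theta f h ≫ i₁) * (theta f (toUnit Y ≫ g))⁻¹ = theta f (h ≫ φ.hom) ≫ i₂ := by
    intro h
    have h1 := congrArg (fun m => theta f (h ≫ m)) hφ
    simp only [MonObj.comp_mul, GrpObj.comp_inv, theta_mul, theta_inv, ← Category.assoc h, theta_map] at h1
    rwa [toUnit_unique (h ≫ toUnit _) (toUnit Y)] at h1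
  constructor
  · intro a
    obtain ⟨h, hh⟩ := theta_surjective f (d' ≫ a)
    refine ⟨d ≫ theta f (h ≫ φ.hom), ?_⟩
    have ha : a = d ≫ theta f h := by rw [hh, ← Category.assoc, hd, Category.id_comp]
    rw [hp, ha, Category.assoc, Category.assoc, ← GrpObj.comp_inv, ← MonObj.comp_mul, ← MonObj.comp_mul, key]
  · intro b
    obtain ⟨h, hh⟩ := theta_surjective f (d' ≫ b)
    refine ⟨d ≫ theta f (h ≫ φ.inv), ?_⟩
    have hb : b = d ≫ theta f h := by rw [hh, ← Category.assoc, hd, Category.id_comp]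
    have k := key (h ≫ φ.inv)
    rw [Category.assoc, Iso.inv_hom_id, Category.comp_id] at k
    rw [hp, hb, Category.assoc, Category.assoc, ← GrpObj.comp_inv, ← MonObj.comp_mul, ← MonObj.comp_mul, ← k]
    congr 1
    group

/-- Conjugating points on the members of a jointly surjective family of open immersions glue. -/
theorem conjPt_sigma {H₁ H₂ G : Over S} [GrpObj G] (i₁ : H₁ ⟶ G) (i₂ : H₂ ⟶ G) [Mono i₁] [Mono i₂]
    {κ : Type u} {V : κ → Scheme.{u}} (f : ∀ k, V k ⟶ S) (g : ∀ k, Over.mk (f k) ⟶ G)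
    (hg : ∀ k, ConjPt i₁ i₂ (g k)) : ∃ g' : Over.mk (Sigma.desc f) ⟶ G, ConjPt i₁ i₂ g' := by
  let g' : Over.mk (Sigma.desc f) ⟶ G := Over.homMk (Sigma.desc fun k => (g k).left) (Sigma.hom_ext _ _ fun k => by
    rw [Sigma.ι_desc_assoc]
    show _ = Sigma.ι V k ≫ Sigma.desc f
    rw [Sigma.ι_desc]
    exact Over.w (g k))
  refine ⟨g', fun X p => ?_⟩
  haveI : Mono i₁.left := inferInstanceAs (Mono ((Over.forget S).map i₁))
  haveI : Mono i₂.left := inferInstanceAs (Mono ((Over.forget S).map i₂))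
  have hpiece : ∀ w : X.left, ∃ (O : X.left.Opens) (k : κ) (q : Over.mk (O.ι ≫ X.hom) ⟶ Over.mk (f k)),
      w ∈ O ∧ q ≫ g k = (Over.homMk O.ι rfl : Over.mk (O.ι ≫ X.hom) ⟶ X) ≫ p ≫ g' := by
    intro w
    obtain ⟨k, y, hy⟩ : ∃ (k : κ) (y : V k), Sigma.ι V k y = p.left w := (sigmaOpenCover V).exists_eq (p.left w)
    let O : X.left.Opens := p.left ⁻¹ᵁ (Sigma.ι V k).opensRange
    have hO : Set.range (O.ι ≫ p.left) ⊆ Set.range (Sigma.ι V k) := by
      rintro _ ⟨z, rfl⟩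
      rw [Scheme.Hom.comp_apply]
      exact z.2
    refine ⟨O, k, Over.homMk (IsOpenImmersion.lift (Sigma.ι V k) (O.ι ≫ p.left) hO) ?_, ⟨y, hy⟩,
      Over.OverMorphism.ext ?_⟩
    · show IsOpenImmersion.lift (Sigma.ι V k) (O.ι ≫ p.left) hO ≫ f k = O.ι ≫ X.hom
      rw [← Sigma.ι_desc f k, IsOpenImmersion.lift_fac_assoc, Category.assoc]
      exact congrArg (O.ι ≫ ·) (Over.w p)
    · show IsOpenImmersion.lift (Sigma.ι V k) (O.ι ≫ p.left) hO ≫ (g k).left =
        O.ι ≫ p.left ≫ Sigma.desc fun k => (g k).left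
      exact ((congrArg (IsOpenImmersion.lift (Sigma.ι V k) (O.ι ≫ p.left) hO ≫ ·)
        (Sigma.ι_desc (fun k => (g k).left) k)).symm.trans
          ((IsOpenImmersion.lift_fac_assoc (Sigma.ι V k) (O.ι ≫ p.left) hO (Sigma.desc fun k => (g k).left)).trans
            (Category.assoc _ _ _)))
  have glue : ∀ {H : Over S} (i : H ⟶ G) [Mono i.left] (x : X ⟶ G), (∀ w : X.left, ∃ O : X.left.Opens, w ∈ O ∧
      ∃ z : Over.mk (O.ι ≫ X.hom) ⟶ H, z ≫ i = (Over.homMk O.ι rfl : Over.mk (O.ι ≫ X.hom) ⟶ X) ≫ x) →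
      ∃ z : X ⟶ H, x = z ≫ i := by
    intro H i _ x hx
    obtain ⟨l, hl⟩ := SgaFix20.Image.exists_factor_local i.left x.left fun w => by
      obtain ⟨O, hw, z, hz⟩ := hx w
      exact ⟨O, hw, z.left, congrArg (fun m => Over.Hom.left m) hz⟩
    exact ⟨Over.homMk l (by rw [← Over.w i, reassoc_of% hl]; exact Over.w x), (Over.OverMorphism.ext hl).symm⟩
  constructor
  · intro a
    refine glue i₂ _ fun w => ?_
    obtain ⟨O, k, q, hw, hq⟩ := hpiece w
    let o : Over.mk (O.ι ≫ X.hom) ⟶ X := Over.homMk O.ι rfl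
    obtain ⟨b, hb⟩ := (hg k _ q).1 (o ≫ a)
    refine ⟨O, hw, b, ?_⟩
    rw [← hb, hq]
    simp only [MonObj.comp_mul, GrpObj.comp_inv, Category.assoc, o]
  · intro b
    refine glue i₁ _ fun w => ?_
    obtain ⟨O, k, q, hw, hq⟩ := hpiece w
    let o : Over.mk (O.ι ≫ X.hom) ⟶ X := Over.homMk O.ι rfl
    obtain ⟨a, ha⟩ := (hg k _ q).2 (o ≫ b)
    refine ⟨O, hw, a, ?_⟩
    rw [← ha, hq]
    simp only [MonObj.comp_mul, GrpObj.comp_inv, Category.assoc, o]

/-- A conjugating point over the base gives a conjugating section of the base change. -/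
theorem conjBy_of_conjPt {U : Scheme.{u}} (f : U ⟶ S) {H₁ H₂ G : Over S} [GrpObj G] (i₁ : H₁ ⟶ G) (i₂ : H₂ ⟶ G)
    [Mono i₁] [Mono i₂] (g₀ : Over.mk f ⟶ G) (hg : ConjPt i₁ i₂ g₀) :
    ∃ g : 𝟙_ (Over U) ⟶ Red.bc f G, SGA3x.ConjBy ((Over.pullback f).map i₁) ((Over.pullback f).map i₂) g := by
  let e' : (Over.map f).obj (𝟙_ (Over U)) ⟶ Over.mk f :=
    Over.homMk (𝟙 U) ((Category.id_comp f).trans (Category.id_comp f).symm)
  obtain ⟨g, hgθ⟩ := theta_surjective f (e' ≫ g₀)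
  haveI : (Over.pullback f).PreservesMonomorphisms :=
    Functor.preservesMonomorphisms_of_adjunction (Over.mapPullbackAdj f)
  have hc : ∀ (Y : Over U), theta f (toUnit Y ≫ g) = ((Over.map f).map (toUnit Y) ≫ e') ≫ g₀ := fun Y => by
    rw [theta_comp, hgθ, Category.assoc]
  obtain ⟨b, hb⟩ := (hg _ ((Over.map f).map (toUnit (Red.bc f H₁)) ≫ e')).1 (theta f (𝟙 _))
  obtain ⟨a, ha⟩ := (hg _ ((Over.map f).map (toUnit (Red.bc f H₂)) ≫ e')).2 (theta f (𝟙 _))
  obtain ⟨l, hl⟩ := theta_surjective f b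
  obtain ⟨l', hl'⟩ := theta_surjective f a
  have h1 : l ≫ (Over.pullback f).map i₂ =
      (toUnit _ ≫ g) * (Over.pullback f).map i₁ * (toUnit _ ≫ g)⁻¹ := by
    apply (theta_bijective f).1
    rw [theta_mul, theta_mul, theta_inv, theta_map, hl, ← hb, hc, ← theta_map, Category.id_comp]
  have h2 : l' ≫ (Over.pullback f).map i₁ =
      (toUnit _ ≫ g)⁻¹ * (Over.pullback f).map i₂ * (toUnit _ ≫ g) := by
    apply (theta_bijective f).1
    rw [theta_mul, theta_mul, theta_inv, theta_map, hl', ← ha, hc, ← theta_map, Category.id_comp]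
  refine ⟨g, ⟨l, l', ?_, ?_⟩, h1.symm⟩
  · rw [← cancel_mono ((Over.pullback f).map i₁), Category.assoc, h2, Category.id_comp, MonObj.comp_mul,
      MonObj.comp_mul, GrpObj.comp_inv, h1, ← Category.assoc, toUnit_unique (l ≫ toUnit _) (toUnit _)]
    group
  · rw [← cancel_mono ((Over.pullback f).map i₂), Category.assoc, h1, Category.id_comp, MonObj.comp_mul,
      MonObj.comp_mul, GrpObj.comp_inv, h2, ← Category.assoc, toUnit_unique (l' ≫ toUnit _) (toUnit _)]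
    group

/-- Maximal tori are conjugate at every geometric point. -/
theorem conjPt_geomPt {G T₁ T₂ : Over S} [GrpObj G] [GrpObj T₁] [GrpObj T₂] [Smooth G.hom] [QuasiCompact G.hom]
    {i₁ : T₁ ⟶ G} {i₂ : T₂ ⟶ G} (h₁ : Red.IsMaximalTorus i₁) (h₂ : Red.IsMaximalTorus i₂) (s : S) :
    ∃ g : Over.mk (Red.geomPt s) ⟶ G, ConjPt i₁ i₂ g := by
  haveI : Smooth (Red.geomFibre s G).hom := inferInstanceAs (Smooth (pullback.snd G.hom (Red.geomPt s)))
  haveI : QuasiCompact (Red.geomFibre s G).hom := inferInstanceAs (QuasiCompact (pullback.snd G.hom (Red.geomPt s)))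
  obtain ⟨g, φ, hg⟩ := exists_conj_algClosed (isMaximalTorus_geomFibre h₁ s) (isMaximalTorus_geomFibre h₂ s)
  exact conjPt_of_conjBy (Red.geomPt s) i₁ i₂ g ⟨φ, hg⟩

/-- Maximal tori of a separated smooth group of finite type are conjugate over an etale covering. -/
theorem exists_conj_etale {G T₁ T₂ : Over S} [GrpObj G] [GrpObj T₁] [GrpObj T₂] [Smooth G.hom] [IsSeparated G.hom]
    [QuasiCompact G.hom] {i₁ : T₁ ⟶ G} {i₂ : T₂ ⟶ G} (h₁ : Red.IsMaximalTorus i₁) (h₂ : Red.IsMaximalTorus i₂) :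
    ∃ (S' : Scheme.{u}) (f : S' ⟶ S), Etale f ∧ Surjective f ∧ ∃ g : 𝟙_ (Over S') ⟶ Red.bc f G,
      SGA3x.ConjBy ((Over.pullback f).map i₁) ((Over.pullback f).map i₂) g := by
  haveI := h₁.1
  haveI := h₁.2.1
  haveI := h₂.1
  haveI := h₂.2.1
  have h := locally_conj_sep (GrpSchLib.RankOne.isMultTypeFT_of_isTorus h₁.2.2.1)
    (GrpSchLib.RankOne.isMultTypeFT_of_isTorus h₂.2.2.1) ‹_› ‹_› i₁ i₂ fun s => conjPt_geomPt h₁ h₂ s
  choose V f hf hs hg using h
  choose g hg using fun s => conjPt_of_conjBy (f s) i₁ i₂ (hg s).choose (hg s).choose_spec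
  obtain ⟨g', hg'⟩ := conjPt_sigma i₁ i₂ f g hg
  refine ⟨∐ V, Sigma.desc f, IsZariskiLocalAtSource.sigmaDesc hf, ⟨fun s => ?_⟩,
    conjBy_of_conjPt (Sigma.desc f) i₁ i₂ g' hg'⟩
  obtain ⟨y, hy⟩ := hs s
  exact ⟨Sigma.ι V s y, by rw [← Scheme.Hom.comp_apply, Sigma.ι_desc]; exact hy⟩

end Groth.Agent.MaxTorusLib
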