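import Groth.Agent.S5246
import Groth.Agent.S0412
import Groth.Agent.GrpSchLib.HomMonoLocus
import Groth.Agent.SgaFix20.DSBasic
import Groth.Agent.MaxTorusLib.Basic
import Groth.Agent.MaxTorusLib.DimDS
import Groth.Agent.SgaFix20.SplitRank
import Mathlib

/-!
# Tori in a geometric fibre of a smooth affine group extend to etale neighbourhoods
-/

universe u

open CategoryTheory CategoryTheory.Limits MonoidalCategory CartesianMonoidalCategory AlgebraicGeometry
open MonObj

set_option backward.isDefEq.respectTransparency false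
set_option backward.isDefEq.respectTransparency.types false
set_option linter.style.haveILetI false
set_option synthInstance.maxHeartbeats 200000
set_option maxHeartbeats 1000000

noncomputable section

namespace Groth.Agent.MaxTorusLib

open DSPtsLib (theta theta_left theta_comp theta_mul theta_bijective)
open GrpSchLib.HomMonoLocus (Inj)

variable {S : Scheme.{u}} {H G A : Over S}

/-- The member of a family of homomorphisms at a point is injective. -/
def InjAt [GrpObj H] [GrpObj G] (υ : H ⊗ A ⟶ G) {P : Over S} (a : P ⟶ A) : Prop :=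
  ∀ (Y : Over S) (q : Y ⟶ P) (x : Y ⟶ H), lift x (q ≫ a) ≫ υ = 1 → x = 1

/-- The member of a family at a point, evaluated on points. -/
theorem map_toUnit_eq {U : Scheme.{u}} (f : U ⟶ S) {Y : Over U} {P : Over S} (q : (Over.map f).obj Y ⟶ P)
    (q' : (Over.map f).obj Y ⟶ P) (h : q.left = q'.left) : q = q' := Over.OverMorphism.ext h

variable [GrpObj H] [GrpObj G] {υ : H ⊗ A ⟶ G}

/-- A point of a family of homomorphisms gives a homomorphism of base changes. -/
theorem exists_hom_of_point (hυ : AutFam.IsHomFamily H G υ) {U : Scheme.{u}} (f : U ⟶ S)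
    (a : (Over.map f).obj (𝟙_ (Over U)) ⟶ A) :
    ∃ u : Red.bc f H ⟶ Red.bc f G, IsMonHom u ∧ ∀ (Y : Over U) (h : Y ⟶ Red.bc f H),
      theta f (h ≫ u) = lift (theta f h) ((Over.map f).map (toUnit Y) ≫ a) ≫ υ := by
  obtain ⟨u, hu⟩ := (theta_bijective f).2
    (lift (theta f (𝟙 (Red.bc f H))) ((Over.map f).map (toUnit (Red.bc f H)) ≫ a) ≫ υ)
  have hev : ∀ (Y : Over U) (h : Y ⟶ Red.bc f H),
      theta f (h ≫ u) = lift (theta f h) ((Over.map f).map (toUnit Y) ≫ a) ≫ υ := by
    intro Y h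
    rw [theta_comp, hu, ← Category.assoc ((Over.map f).map h), comp_lift, ← theta_comp, Category.comp_id,
      ← Functor.map_comp_assoc, comp_toUnit]
  have hmul : ∀ (Y : Over U) (h h' : Y ⟶ Red.bc f H), (h * h') ≫ u = (h ≫ u) * (h' ≫ u) := fun Y h h' => by
    apply (theta_bijective f).1
    rw [theta_mul, hev, hev, hev, theta_mul, hυ]
  refine ⟨u, ⟨?_, ?_⟩, hev⟩
  · have h1 := hmul (𝟙_ (Over U)) 1 1
    rw [_root_.one_mul, left_eq_mul] at h1
    simpa only [Hom.one_def, toUnit_unique (toUnit (𝟙_ (Over U))) (𝟙 _), Category.id_comp] using h1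
  · have h1 := hmul _ (fst (Red.bc f H) (Red.bc f H)) (snd _ _)
    rw [Hom.mul_def, lift_fst_snd, Category.id_comp, Hom.mul_def] at h1
    rw [h1, lift_fst_comp_snd_comp]

/-- A homomorphism of base changes comes from a point of a representing scheme. -/
theorem exists_point_of_hom (hA : AutFam.RepresentsHom H G A υ) {U : Scheme.{u}} (f : U ⟶ S)
    (u : Red.bc f H ⟶ Red.bc f G) [IsMonHom u] :
    ∃ a : (Over.map f).obj (𝟙_ (Over U)) ⟶ A, ∀ (Y : Over U) (h : Y ⟶ Red.bc f H),
      theta f (h ≫ u) = lift (theta f h) ((Over.map f).map (toUnit Y) ≫ a) ≫ υ := by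
  haveI := MultDefLib.isIso_fromBcProd f H (𝟙_ (Over U))
  let φ := inv (MultDefLib.fromBcProd f H (𝟙_ (Over U))) ≫ theta f (fst (Red.bc f H) (𝟙_ (Over U)) ≫ u)
  have hφ : ∀ (Y : Over U) (h : Y ⟶ Red.bc f H),
      lift (theta f h) ((Over.map f).map (toUnit Y)) ≫ φ = theta f (h ≫ u) := by
    intro Y h
    rw [← MultDefLib.map_lift_fromBcProd, Category.assoc, IsIso.hom_inv_id_assoc, ← theta_comp, lift_fst_assoc]
  have hfam : AutFam.IsHomFamily H G φ := by
    intro Y g₁ g₂ t
    obtain ⟨Y', t', e, e', he, rfl⟩ := MultDefLib.exists_lift_over f t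
    obtain ⟨h₁, hh₁⟩ := MultDefLib.theta_surjective f (e' ≫ g₁)
    obtain ⟨h₂, hh₂⟩ := MultDefLib.theta_surjective f (e' ≫ g₂)
    have hg₁ : g₁ = e ≫ theta f h₁ := by rw [hh₁, ← Category.assoc, he, Category.id_comp]
    have hg₂ : g₂ = e ≫ theta f h₂ := by rw [hh₂, ← Category.assoc, he, Category.id_comp]
    rw [toUnit_unique t' (toUnit Y'), hg₁, hg₂, ← MonObj.comp_mul, ← theta_mul, ← comp_lift, ← comp_lift,
      ← comp_lift, Category.assoc, Category.assoc, Category.assoc, hφ, hφ, hφ, ← MonObj.comp_mul, ← theta_mul,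
      MonObj.mul_comp]
  obtain ⟨a, ha, -⟩ := hA.2 _ φ hfam
  exact ⟨a, fun Y h => by rw [← hφ, ← ha, lift_whiskerLeft_assoc]⟩

/-- An injective member of a family is a monomorphism. -/
theorem mono_of_injAt {U : Scheme.{u}} (f : U ⟶ S) {a : (Over.map f).obj (𝟙_ (Over U)) ⟶ A} (ha : InjAt υ a)
    {u : Red.bc f H ⟶ Red.bc f G} [IsMonHom u] (hu : ∀ (Y : Over U) (h : Y ⟶ Red.bc f H),
      theta f (h ≫ u) = lift (theta f h) ((Over.map f).map (toUnit Y) ≫ a) ≫ υ) : Mono u := by
  refine ⟨fun {Y} b c hbc => ?_⟩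
  have h1 : (b * c⁻¹) ≫ u = 1 := by rw [MonObj.mul_comp, GrpObj.inv_comp, hbc, mul_inv_cancel]
  have h2 : theta f (b * c⁻¹) = 1 := ha _ ((Over.map f).map (toUnit Y)) _ (by
    rw [← hu, h1, MultDefLib.theta_one])
  exact mul_inv_eq_one.mp ((theta_bijective f).1 (h2.trans (MultDefLib.theta_one f).symm))

/-- A monomorphic member of a family is injective. -/
theorem injAt_of_mono {U : Scheme.{u}} (f : U ⟶ S) {a : (Over.map f).obj (𝟙_ (Over U)) ⟶ A}
    {u : Red.bc f H ⟶ Red.bc f G} [IsMonHom u] [Mono u] (hu : ∀ (Y : Over U) (h : Y ⟶ Red.bc f H),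
      theta f (h ≫ u) = lift (theta f h) ((Over.map f).map (toUnit Y) ≫ a) ≫ υ) : InjAt υ a := by
  intro Y q x hx
  let Y' : Over U := Over.mk q.left
  let e : Y ⟶ (Over.map f).obj Y' := Over.homMk (𝟙 _) ((Category.id_comp _).trans (Over.w q))
  let e' : (Over.map f).obj Y' ⟶ Y := Over.homMk (𝟙 _) ((Category.id_comp _).trans (Over.w q).symm)
  have he : e ≫ e' = 𝟙 Y := Over.OverMorphism.ext (Category.id_comp _)
  obtain ⟨h, hh⟩ := MultDefLib.theta_surjective f (e' ≫ x)
  have hq : e' ≫ q = (Over.map f).map (toUnit Y') := Over.OverMorphism.ext (Category.id_comp _)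
  have h1 : theta f (h ≫ u) = 1 := by
    rw [hu, hh, ← hq, Category.assoc, ← comp_lift, Category.assoc, hx, MonObj.comp_one]
  have h2 : h ≫ u = 1 := (theta_bijective f).1 (h1.trans (MultDefLib.theta_one f).symm)
  have h3 : h = 1 := (cancel_mono u).1 (h2.trans (MonObj.one_comp u).symm)
  rw [← Category.id_comp x, ← he, Category.assoc, ← hh, h3, MultDefLib.theta_one, MonObj.comp_one]

/-- The open set of injective members of a family of homomorphisms from a group of multiplicative type. -/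
theorem exists_injAt_open (hH : SGA3x.IsMultTypeFT H) [IsSeparated G.hom] (hυ : AutFam.IsHomFamily H G υ) :
    ∃ W : A.left.Opens,
      (∀ (P : Over S) (a : P ⟶ A), Set.range a.left ⊆ (W : Set A.left) → InjAt υ a) ∧
      ∀ {K : Type u} [Field K] (f : Spec (CommRingCat.of K) ⟶ S) (a : (Over.map f).obj (𝟙_ (Over _)) ⟶ A),
        InjAt υ a → a.left (IsLocalRing.closedPoint K) ∈ W := by
  let g : A.left ⟶ S := A.hom
  let a₀ : (Over.map g).obj (𝟙_ (Over A.left)) ⟶ A := Over.homMk (𝟙 _) (by simp [g])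
  obtain ⟨uA, hmon, huA⟩ := exists_hom_of_point hυ g a₀
  haveI := hmon
  haveI : IsSeparated (Red.bc g G).hom := inferInstanceAs (IsSeparated (pullback.snd G.hom g))
  obtain ⟨W, hW, hWinj⟩ := GrpSchLib.HomMonoLocus.main (u := uA) (GrpSchLib.MultTypeBC.isMultTypeFT_bc g hH)
  refine ⟨W, fun P a ha Y q x hx => ?_, fun {K} _ f a ha => ?_⟩
  · let Y' : Over A.left := Over.mk (q ≫ a).left
    let e : Y ⟶ (Over.map g).obj Y' := Over.homMk (𝟙 _) ((Category.id_comp _).trans (Over.w (q ≫ a)))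
    let e' : (Over.map g).obj Y' ⟶ Y := Over.homMk (𝟙 _) ((Category.id_comp _).trans (Over.w (q ≫ a)).symm)
    have he : e ≫ e' = 𝟙 Y := Over.OverMorphism.ext (Category.id_comp _)
    obtain ⟨h, hh⟩ := MultDefLib.theta_surjective g (e' ≫ x)
    have hq : (Over.map g).map (toUnit Y') ≫ a₀ = e' ≫ q ≫ a :=
      Over.OverMorphism.ext ((Category.comp_id _).trans (Category.id_comp _).symm)
    have h2 : h ≫ uA = 1 := (theta_bijective g).1 (by
      rw [huA, hh, hq, ← comp_lift, Category.assoc, hx, MonObj.comp_one, MultDefLib.theta_one])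
    have h3 : h = 1 := hWinj Y'
      (Over.homMk (IsOpenImmersion.lift W.ι (q ≫ a).left (by
        rintro _ ⟨y, rfl⟩
        exact ⟨⟨_, ha ⟨q.left y, rfl⟩⟩, rfl⟩)) (IsOpenImmersion.lift_fac _ _ _)) h h2
    rw [← Category.id_comp x, ← he, Category.assoc, ← hh, h3, MultDefLib.theta_one, MonObj.comp_one]
  · rw [hW]
    have h1 : Inj uA a.left := by
      intro Y r h hh
      let r' : (Over.map g).obj Y ⟶ (Over.map f).obj (𝟙_ (Over _)) := Over.homMk r.left (by
        show r.left ≫ 𝟙 _ ≫ f = Y.hom ≫ g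
        rw [Category.id_comp, ← Over.w r]
        show r.left ≫ f = (r.left ≫ a.left) ≫ A.hom
        rw [Category.assoc]
        exact (congrArg (r.left ≫ ·) ((Over.w a).trans (Category.id_comp f))).symm)
      have hq : (Over.map g).map (toUnit Y) ≫ a₀ = r' ≫ a :=
        Over.OverMorphism.ext ((Category.comp_id _).trans (Over.w r).symm)
      apply (theta_bijective g).1
      rw [MultDefLib.theta_one]
      refine ha _ r' _ ?_
      rw [← hq, ← huA, hh, MultDefLib.theta_one]
    rw [← Scheme.descResidueField_stalkClosedPointTo_fromSpecResidueField K A.left a.left] at h1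
    exact GrpSchLib.HomMonoLocus.Inj.of_covers _ (GrpSchLib.HomUnitLocus.covers_field _) h1

theorem geomPt_eval (s : S) (p : Spec (CommRingCat.of (AlgebraicClosure (S.residueField s)))) : Red.geomPt s p = s := by
  show (_ ≫ S.fromSpecResidueField s) _ = s
  rw [Scheme.Hom.comp_apply, Scheme.fromSpecResidueField_apply]

/-- An injective homomorphism of a geometric fibre extends to an etale neighbourhood. -/
theorem exists_etale_mono_hom {H G : Over S} [GrpObj H] [GrpObj G] [IsAffineHom G.hom] [Smooth G.hom]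
    (hH : SGA3x.IsMultTypeFT H) (s : S) (j : Red.bc (Red.geomPt s) H ⟶ Red.geomFibre s G) [IsMonHom j] [Mono j] :
    ∃ (V : Scheme.{u}) (f : V ⟶ S), Etale f ∧ s ∈ Set.range f.base ∧
      ∃ u : Red.bc f H ⟶ Red.bc f G, IsMonHom u ∧ Mono u := by
  obtain ⟨A, υ, hA, hsm, -⟩ := S5246.result H G hH ‹_› ‹_›
  haveI := hsm
  let k := Red.geomPt s
  obtain ⟨a, ha⟩ := exists_point_of_hom hA k j
  obtain ⟨W, hW, hWK⟩ := exists_injAt_open hH hA.1
  have haW := hWK k a (injAt_of_mono k ha)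
  haveI : Smooth (W.ι ≫ A.hom) := MorphismProperty.comp_mem _ _ _ inferInstance hsm
  obtain ⟨V, f, v, hf, hv, l, hl⟩ := S0412.result (W.ι ≫ A.hom) s ⟨⟨_, haW⟩, by
    rw [Scheme.Hom.comp_apply]
    show A.hom (a.left _) = s
    rw [← Scheme.Hom.comp_apply, Over.w a]
    show (𝟙 _ ≫ Red.geomPt s) _ = s
    rw [Category.id_comp]
    exact geomPt_eval s _⟩
  let b : (Over.map f).obj (𝟙_ (Over V)) ⟶ A := Over.homMk (l ≫ W.ι) (by
    show (l ≫ W.ι) ≫ A.hom = 𝟙 V ≫ f
    rw [Category.assoc, hl, Category.id_comp])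
  have hb : InjAt υ b := hW _ b (by
    rintro _ ⟨p, rfl⟩
    exact (l p).2)
  obtain ⟨u, hmon, hu⟩ := exists_hom_of_point hA.1 f b
  haveI := hmon
  exact ⟨V, f, hf, ⟨v, hv⟩, u, hmon, mono_of_injAt f hb hu⟩

/-- A group isomorphic to one mapping monomorphically maps monomorphically. -/
theorem exists_mono_hom_of_iso {A B C : Over S} [GrpObj A] [GrpObj B] [GrpObj C] (e : Grp.mk A ≅ Grp.mk B)
    (u : B ⟶ C) [IsMonHom u] [Mono u] : ∃ v : A ⟶ C, IsMonHom v ∧ Mono v := by
  let φ := MultDefLib.overIso e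
  haveI : IsMonHom φ.hom := e.hom.hom.isMonHom_hom
  exact ⟨φ.hom ≫ u, SgaFix20.isMonHom_comp _ _ inferInstance inferInstance, mono_comp _ _⟩

/-- The dimension of a fibre of a free diagonalisable group. -/
theorem dim_bc_DS {K : Type u} [Field K] (t : Spec (CommRingCat.of K) ⟶ S) (n : ℕ) :
    topologicalKrullDim ↥(Red.bc t (Red.DS S (Fin n → ℤ))).left = (n : WithBot ℕ∞) := by
  obtain ⟨e₁⟩ := GrpSchLib.MultTypeBC.bc_DS t (Fin n → ℤ)
  obtain ⟨e₂⟩ := GrpSchLib.AffineHopf.nonempty_DS_iso K (Fin n → ℤ)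
  let φ := (Over.forget _).mapIso (MultDefLib.overIso (e₁ ≪≫ e₂.symm))
  refine (IsHomeomorph.topologicalKrullDim_eq _ φ.hom.homeomorph.isHomeomorph).trans ?_
  show topologicalKrullDim (PrimeSpectrum (MonoidAlgebra K (Multiplicative (Fin n → ℤ)))) = _
  rw [PrimeSpectrum.topologicalKrullDim_eq_ringKrullDim, ringKrullDim_groupAlgebra,
    Module.finrank_fin_fun]

/-- A torus over an algebraically closed field is split of rank its dimension. -/
theorem exists_rank_torus {k : Type u} [Field k] [IsAlgClosed k] {T : Over (Spec (CommRingCat.of k))} [GrpObj T]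
    (hT : Red.IsTorus T) : ∃ n : ℕ, SgaFix20.HasRank T n ∧ topologicalKrullDim ↥T.left = (n : WithBot ℕ∞) ∧
      ∀ {K : Type u} [Field K] (m : Spec (CommRingCat.of K) ⟶ Spec (CommRingCat.of k)),
        topologicalKrullDim ↥(Red.bc m T).left = (n : WithBot ℕ∞) := by
  obtain ⟨n, ⟨e⟩⟩ := RedSub30.exists_splitTorus_iso T hT
  obtain ⟨eh⟩ := GrpSchLib.AffineHopf.nonempty_DS_iso k (Fin n → ℤ)
  let ε := e.symm ≪≫ eh
  have hbc : ∀ {K : Type u} [Field K] (m : Spec (CommRingCat.of K) ⟶ Spec (CommRingCat.of k)),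
      topologicalKrullDim ↥(Red.bc m T).left = (n : WithBot ℕ∞) := fun {K} _ m => by
    obtain ⟨em⟩ := GrpSchLib.MultTypeBC.bc_iso m ε
    exact (IsHomeomorph.topologicalKrullDim_eq _
      ((Over.forget _).mapIso (MultDefLib.overIso em)).hom.homeomorph.isHomeomorph).trans (dim_bc_DS m n)
  refine ⟨n, SgaFix20.hasRank_of_split ⟨ε⟩, ?_, hbc⟩
  obtain ⟨e₁⟩ := SgaFix20.nonempty_bc_id T
  exact (IsHomeomorph.topologicalKrullDim_eq _
    ((Over.forget _).mapIso (MultDefLib.overIso e₁)).hom.homeomorph.isHomeomorph).symm.trans (hbc (𝟙 _))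

/-- A monomorphism between tori of the same dimension over an algebraically closed field is an isomorphism. -/
theorem isIso_of_dim_eq {k : Type u} [Field k] [IsAlgClosed k] {T T' : Over (Spec (CommRingCat.of k))} [GrpObj T]
    [GrpObj T'] (hT : Red.IsTorus T) (hT' : Red.IsTorus T') (v : T ⟶ T') [IsMonHom v] [Mono v]
    (h : topologicalKrullDim ↥T.left = topologicalKrullDim ↥T'.left) : IsIso v := by
  obtain ⟨n, hn, hd, -⟩ := exists_rank_torus hT
  obtain ⟨n', hn', hd', -⟩ := exists_rank_torus hT'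
  obtain rfl : n = n' := by
    rw [hd, hd'] at h
    exact_mod_cast h
  exact hn.isIso hn' v

theorem exists_etale_torus_aux {H G : Over S} [GrpObj H] [GrpObj G] [IsAffineHom G.hom] [Smooth G.hom]
    (hH : SGA3x.IsMultTypeFT H) (s : S)
    {T : Over (Spec (CommRingCat.of (AlgebraicClosure (S.residueField s))))} [GrpObj T]
    (e : Grp.mk (Red.bc (Red.geomPt s) H) ≅ Grp.mk T) (j : T ⟶ Red.geomFibre s G) [IsMonHom j] [Mono j] :
    ∃ (V : Scheme.{u}) (f : V ⟶ S), Etale f ∧ s ∈ Set.range f.base ∧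
      ∃ u : Red.bc f H ⟶ Red.bc f G, IsMonHom u ∧ Mono u := by
  obtain ⟨j', hj', hj''⟩ := exists_mono_hom_of_iso e j
  haveI := hj'
  haveI := hj''
  exact exists_etale_mono_hom hH s j'

/-- A torus in a geometric fibre of a smooth affine group extends to an etale neighbourhood. -/
theorem exists_etale_torus {G : Over S} [GrpObj G] [IsAffineHom G.hom] [Smooth G.hom] (s : S)
    {T : Over (Spec (CommRingCat.of (AlgebraicClosure (S.residueField s))))} [GrpObj T] (hT : Red.IsTorus T)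
    (j : T ⟶ Red.geomFibre s G) [IsMonHom j] [Mono j] :
    ∃ (H : Over S) (_ : GrpObj H), Red.IsTorus H ∧
      (∀ (K : Type u) [Field K] (t : Spec (CommRingCat.of K) ⟶ S),
        topologicalKrullDim ↥(Red.bc t H).left = topologicalKrullDim ↥T.left) ∧
      ∃ (V : Scheme.{u}) (f : V ⟶ S), Etale f ∧ s ∈ Set.range f.base ∧
        ∃ u : Red.bc f H ⟶ Red.bc f G, IsMonHom u ∧ Mono u := by
  obtain ⟨r, ⟨e⟩⟩ := RedSub30.exists_splitTorus_iso T hT
  obtain ⟨eh⟩ := GrpSchLib.AffineHopf.nonempty_DS_iso (AlgebraicClosure (S.residueField s)) (Fin r → ℤ)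
  obtain ⟨eb⟩ := GrpSchLib.MultTypeBC.bc_DS (Red.geomPt s) (Fin r → ℤ) (U := S)
  refine ⟨Red.DS S (Fin r → ℤ), inferInstance, isTorus_DS S r, fun K _ t => ?_, exists_etale_torus_aux
    (SgaFix20.isMultTypeFT_DS S (Fin r → ℤ) ((AddGroup.fg_iff_addMonoid_fg).mpr inferInstance)) s
    (eb ≪≫ eh.symm ≪≫ e) j⟩
  let φ := (Over.forget _).mapIso (MultDefLib.overIso (eb ≪≫ eh.symm ≪≫ e))
  exact (dim_bc_DS _ r).trans ((dim_bc_DS _ r).symm.trans
    (IsHomeomorph.topologicalKrullDim_eq _ φ.hom.homeomorph.isHomeomorph))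

end Groth.Agent.MaxTorusLib
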